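import Groth.Agent.WeilCoh.K861.Fixed
import Mathlib.AlgebraicGeometry.Morphisms.Immersion
import Mathlib.AlgebraicGeometry.Noetherian

/-!
# The fixed point scheme of the Frobenius is reduced and finite
-/

set_option autoImplicit false

universe u v w

open CategoryTheory AlgebraicGeometry Limits IsLocalRing
open K861.Fixed

namespace K861.FixRed

theorem stalkMap_germ_congr {Z Y : Scheme.{u}} (r r' : Z ⟶ Y) (h : r = r') (V : Y.Opens) (z : Z)
    (hz : r z ∈ V) (hz' : r' z ∈ V) (s : Γ(Y, V)) :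
    (r.stalkMap z).hom (Y.presheaf.germ V (r z) hz s) =
      (r'.stalkMap z).hom (Y.presheaf.germ V (r' z) hz' s) := by
  subst h; rfl

theorem map_sq_mem {Z Y : Scheme.{u}} (e : Z ⟶ Y) (z : Z) (b : Y.presheaf.stalk (e z))
    (hb : b ∈ maximalIdeal (Y.presheaf.stalk (e z)) ^ 2) :
    (e.stalkMap z).hom b ∈ maximalIdeal (Z.presheaf.stalk z) ^ 2 := by
  have h1 : Ideal.map (e.stalkMap z).hom (maximalIdeal (Y.presheaf.stalk (e z))) ≤
      maximalIdeal (Z.presheaf.stalk z) := by
    rw [Ideal.map_le_iff_le_comap]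
    exact fun a ha => mem_of_mem e z a ha
  have h2 := Ideal.mem_map_of_mem (e.stalkMap z).hom hb
  rw [Ideal.map_pow] at h2
  exact Ideal.pow_right_mono h1 2 h2

theorem isField_stalk {Z Y : Scheme.{u}} (e : Z ⟶ Y) [SurjectiveOnStalks e] [IsLocallyNoetherian Z]
    (G : Y ⟶ Y) (hG : Sq G) (he : e ≫ G = e) (z : Z) : IsField (Z.presheaf.stalk z) := by
  rw [IsLocalRing.isField_iff_maximalIdeal_eq]
  refine Submodule.eq_bot_of_le_smul_of_le_jacobson_bot (maximalIdeal (Z.presheaf.stalk z))
    (maximalIdeal (Z.presheaf.stalk z)) (IsNoetherian.noetherian _) ?_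
    (IsLocalRing.maximalIdeal_le_jacobson _)
  intro a ha
  obtain ⟨b, rfl⟩ := e.stalkMap_surjective z a
  obtain ⟨V, hV, s, rfl⟩ := Y.presheaf.exists_germ_eq b
  have hGz : G (e z) = e z := congrArg (fun r : Z ⟶ Y => r z) he
  have hV' : G (e z) ∈ V := by rw [hGz]; exact hV
  have h1 : (Y.presheaf.germ V (e z) hV).hom s ∈ maximalIdeal (Y.presheaf.stalk (e z)) := by
    rw [mem_maximalIdeal, mem_nonunits_iff]
    intro hu
    rw [mem_maximalIdeal, mem_nonunits_iff] at ha
    exact ha (hu.map (e.stalkMap z).hom)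
  have h2 : e z ∉ Y.basicOpen s := (germ_mem_iff V (e z) hV s).1 h1
  have h3 : G (e z) ∉ Y.basicOpen s := by rw [hGz]; exact h2
  have h4 := hG (e z) (Y.presheaf.germ V (G (e z)) hV' s) ((germ_mem_iff V (G (e z)) hV' s).2 h3)
  have h5 := map_sq_mem e z _ h4
  have h6 := stalkMap_germ_congr (e ≫ G) e he V z hV' hV s
  have h7 : (e ≫ G).stalkMap z = G.stalkMap (e z) ≫ e.stalkMap z := Scheme.Hom.stalkMap_comp e G z
  rw [h7] at h6
  rw [smul_eq_mul, ← pow_two]
  have h8 : (e.stalkMap z).hom ((Y.presheaf.germ V (e z) hV).hom s) =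
    (e.stalkMap z).hom ((G.stalkMap (e z)).hom (Y.presheaf.germ V (G (e z)) hV' s)) := h6.symm
  change (e.stalkMap z).hom ((Y.presheaf.germ V (e z) hV).hom s) ∈ _
  rw [h8]
  exact h5

theorem isReduced_of_isField {Z : Scheme.{u}} (h : ∀ z : Z, IsField (Z.presheaf.stalk z)) :
    IsReduced Z := by
  have : ∀ z : Z, _root_.IsReduced (Z.presheaf.stalk z) := fun z => by
    have : IsDomain (Z.presheaf.stalk z) := (h z).isDomain
    infer_instance
  exact isReduced_of_isReduced_stalk Z

theorem eq_of_specializes {Z : Scheme.{u}} (h : ∀ z : Z, IsField (Z.presheaf.stalk z)) (y z : Z)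
    (hyz : y ⤳ z) : y = z := by
  have h1 : y ∈ Set.range (Z.fromSpecStalk z) := by
    rw [Scheme.range_fromSpecStalk]; exact hyz
  have h2 : z ∈ Set.range (Z.fromSpecStalk z) := by
    rw [Scheme.range_fromSpecStalk]; exact specializes_rfl
  have : Subsingleton (Spec (Z.presheaf.stalk z)) := by
    let _ := (h z).toField
    exact inferInstanceAs (Subsingleton (PrimeSpectrum (Z.presheaf.stalk z)))
  obtain ⟨a, rfl⟩ := h1
  obtain ⟨b, hb⟩ := h2
  exact (congrArg (Z.fromSpecStalk z) (Subsingleton.elim a b)).trans hb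

theorem finite_of_isField {Z : Scheme.{u}} (h : ∀ z : Z, IsField (Z.presheaf.stalk z))
    [TopologicalSpace.NoetherianSpace Z] : Finite Z := by
  have hfin := TopologicalSpace.NoetherianSpace.finite_irreducibleComponents (α := Z)
  have hcomp : ∀ z : Z, closure ({z} : Set Z) ∈ irreducibleComponents Z := by
    intro z
    refine ⟨isIrreducible_singleton.closure, fun T hT hle => ?_⟩
    obtain ⟨ξ, hξ⟩ := QuasiSober.sober hT.closure isClosed_closure
    have hz : z ∈ closure T := subset_closure (hle (subset_closure rfl))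
    have h1 : ξ ⤳ z := by
      rw [specializes_iff_mem_closure, hξ.def]; exact hz
    have h2 := eq_of_specializes h ξ z h1
    rw [← h2, hξ.def]
    exact subset_closure
  have : Finite (irreducibleComponents Z) := hfin
  refine Finite.of_injective (fun z : Z => (⟨closure {z}, hcomp z⟩ : irreducibleComponents Z)) ?_
  intro y z hyz
  have h1 : closure ({y} : Set Z) = closure {z} := congrArg Subtype.val hyz
  have h2 : y ⤳ z := by
    rw [specializes_iff_mem_closure, h1]; exact subset_closure rfl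
  exact eq_of_specializes h y z h2

section Frob

variable {k₀ : Type u} [Field k₀] [Finite k₀] {k : Type u} [Field k] [IsAlgClosed k]
    [Algebra k₀ k] {X : Scheme.{u}} (f : X ⟶ Spec (CommRingCat.of k₀)) [LocallyOfFiniteType f]
    (FX : X ⟶ X) (hFb : FX.base = 𝟙 _) (hle : ∀ U : X.Opens, U ≤ FX ⁻¹ᵁ U)
    (hFapp : ∀ (U : X.Opens) (s : Γ(X, U)), (FX.appLE U U (hle U)).hom s = s ^ Nat.card k₀)
    {Y : Scheme.{u}} (g : Y ⟶ Spec (CommRingCat.of k)) (π : Y ⟶ X)
    (hπ : IsPullback π g f (Spec.map (CommRingCat.ofHom (algebraMap k₀ k))))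
    (F : Y ⟶ Y) (hF : F ≫ π = π ≫ FX) (hFg : F ≫ g = g)

include hFb hFapp hπ hF hFg

theorem sq_of_frob : Sq F := by
  obtain ⟨p', e, hp', hch, he, hcard, hpY, h, hiso, hfac⟩ :=
    Frob.exists_factor f FX hFb hle hFapp g π hπ F hF hFg
  rw [hfac]; exact Fixed.sq_frob p' hp' hpY e he h

theorem isField_stalk_fix (z : (pullback (pullback.lift (𝟙 Y) F (by rw [hFg, Category.id_comp]) :
      Y ⟶ pullback g g) (pullback.lift (𝟙 Y) (𝟙 Y) rfl : Y ⟶ pullback g g) : Scheme.{u})) :
    IsField ((pullback (pullback.lift (𝟙 Y) F (by rw [hFg, Category.id_comp]) :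
      Y ⟶ pullback g g) (pullback.lift (𝟙 Y) (𝟙 Y) rfl : Y ⟶ pullback g g)).presheaf.stalk z) := by
  have hg : LocallyOfFiniteType g := MorphismProperty.of_isPullback hπ inferInstance
  have hd : IsImmersion (pullback.lift (𝟙 Y) (𝟙 Y) rfl : Y ⟶ pullback g g) :=
    inferInstanceAs (IsImmersion (pullback.diagonal g))
  let a := pullback.fst (pullback.lift (𝟙 Y) F (by rw [hFg, Category.id_comp]) : Y ⟶ pullback g g)
    (pullback.lift (𝟙 Y) (𝟙 Y) rfl : Y ⟶ pullback g g)
  let b := pullback.snd (pullback.lift (𝟙 Y) F (by rw [hFg, Category.id_comp]) : Y ⟶ pullback g g)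
    (pullback.lift (𝟙 Y) (𝟙 Y) rfl : Y ⟶ pullback g g)
  have hw : a ≫ pullback.lift (𝟙 Y) F (by rw [hFg, Category.id_comp]) =
      b ≫ pullback.lift (𝟙 Y) (𝟙 Y) rfl := pullback.condition
  have h1 : a = b := by
    have := congrArg (fun t => t ≫ pullback.fst g g) hw
    rwa [Category.assoc, Category.assoc, pullback.lift_fst, pullback.lift_fst, Category.comp_id,
      Category.comp_id] at this
  have h2 : a ≫ F = b := by
    have := congrArg (fun t => t ≫ pullback.snd g g) hw
    rwa [Category.assoc, Category.assoc, pullback.lift_snd, pullback.lift_snd,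
      Category.comp_id] at this
  have ha : IsImmersion a := by
    dsimp only [a]
    infer_instance
  have hlf : LocallyOfFiniteType a := inferInstance
  have hln : IsLocallyNoetherian (pullback (pullback.lift (𝟙 Y) F (by rw [hFg, Category.id_comp]) :
      Y ⟶ pullback g g) (pullback.lift (𝟙 Y) (𝟙 Y) rfl : Y ⟶ pullback g g)) :=
    LocallyOfFiniteType.isLocallyNoetherian (a ≫ g)
  exact isField_stalk a F (sq_of_frob f FX hFb hle hFapp g π hπ F hF hFg) (h2.trans h1.symm) z

theorem noetherianSpace_fix [QuasiCompact f] : TopologicalSpace.NoetherianSpace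
    (pullback (pullback.lift (𝟙 Y) F (by rw [hFg, Category.id_comp]) :
      Y ⟶ pullback g g) (pullback.lift (𝟙 Y) (𝟙 Y) rfl : Y ⟶ pullback g g) : Scheme.{u}) := by
  have hg : LocallyOfFiniteType g := MorphismProperty.of_isPullback hπ inferInstance
  have hq : QuasiCompact g := MorphismProperty.of_isPullback hπ inferInstance
  have hd : IsImmersion (pullback.lift (𝟙 Y) (𝟙 Y) rfl : Y ⟶ pullback g g) :=
    inferInstanceAs (IsImmersion (pullback.diagonal g))
  have hYc : CompactSpace Y := QuasiCompact.compactSpace_of_compactSpace g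
  have hYl : IsLocallyNoetherian Y := LocallyOfFiniteType.isLocallyNoetherian g
  have hYn : IsNoetherian Y := {}
  have hYs : TopologicalSpace.NoetherianSpace Y := inferInstance
  let a := pullback.fst (pullback.lift (𝟙 Y) F (by rw [hFg, Category.id_comp]) : Y ⟶ pullback g g)
    (pullback.lift (𝟙 Y) (𝟙 Y) rfl : Y ⟶ pullback g g)
  have ha : IsImmersion a := by
    dsimp only [a]
    infer_instance
  exact a.isEmbedding.isInducing.noetherianSpace

end Frob

end K861.FixRed
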