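import Groth.Agent.WeilCoh.K861.Point
import Groth.Prelude.Def_ChowOps

/-!
# Classes of cycles and push-forward of cycles
-/

set_option autoImplicit false
set_option linter.unusedSectionVars false

universe u v w

open CategoryTheory AlgebraicGeometry TensorProduct WeilCoh
open Groth.Agent.CycB

namespace K861.Cycle

section Var

variable {k : Type u} [Field k]

theorem delta_eq_pdim {X : Scheme.{u}} (p : X ⟶ Spec (CommRingCat.of k)) [LocallyOfFiniteType p]
    (δ : X → ℤ) (hδ : Cyc.DeltaCompat p δ (fun _ => 0)) (x : X) : δ x = pdim X x := by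
  obtain ⟨n, hn, hn'⟩ := RelDim.deltaCompat_iff.mp hδ x
  rw [(Dim.rtd_eq_pdim p x).1] at hn
  have : pdim X x = n := by exact_mod_cast hn
  rw [hn', this]
  simp

theorem mapCoeff_eq {X Y : Var k} (f : X ⟶ Y)
    (δX : ↥X.obj.left → ℤ) (hδX : Cyc.DeltaCompat X.obj.hom δX (fun _ => 0))
    (δY : ↥Y.obj.left → ℤ) (hδY : Cyc.DeltaCompat Y.obj.hom δY (fun _ => 0)) (x : X.obj.left) :
    AlgebraicCycle.mapCoeff (sm f) δX δY x = (sm f).residueDegree x := by
  unfold AlgebraicCycle.mapCoeff
  by_cases h : (sm f).residueDegree x = 0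
  · simp [h]
  · have h1 := Dim.pdim_of_residueDegree_ne_zero f x h
    have h2 : δX x = δY ((sm f) x) := by
      rw [delta_eq_pdim _ δX hδX, delta_eq_pdim _ δY hδY, h1]
    exact if_pos h2

theorem finite_support (X : Var k) (α : AlgebraicCycle X.obj.left ℤ) :
    (Function.support α).Finite := by
  have h := α.locallyFiniteSupport.finite_inter_support_of_isCompact
    (isCompact_univ (X := X.obj.left))
  exact h.subset fun x hx => ⟨trivial, hx⟩

end Var

section Theory

variable {k : Type u} [Field k] [IsAlgClosed k] {K : Type v} [Field K] [CharZero K] (T : Theory k K)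

theorem clCyc_eq_sum (X : Var k) (α : AlgebraicCycle X.obj.left ℤ) (s : Finset X.obj.left)
    (hs : Function.support α ⊆ s) :
    T.clCyc X α = ∑ x ∈ s, ((α x : ℤ) : K) • T.cl X x := by
  unfold TheoryOn.clCyc
  apply finsum_eq_sum_of_support_subset
  intro x hx
  apply hs
  rw [Function.mem_support] at hx ⊢
  intro h
  rw [h] at hx
  simp at hx

theorem clCyc_map {X Y : Var k} (f : X ⟶ Y) [QuasiCompact (sm f)]
    (δX : ↥X.obj.left → ℤ) (hδX : Cyc.DeltaCompat X.obj.hom δX (fun _ => 0))
    (δY : ↥Y.obj.left → ℤ) (hδY : Cyc.DeltaCompat Y.obj.hom δY (fun _ => 0))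
    (α : AlgebraicCycle X.obj.left ℤ) (s : Finset X.obj.left)
    (hs : Function.support α ⊆ s) :
    T.clCyc Y (AlgebraicCycle.map (sm f) δX δY α) =
      ∑ x ∈ s, (((α x : ℤ) : K) * ((sm f).residueDegree x : K)) • T.cl Y (sm f x) := by
  classical
  have h1 : ∀ y, AlgebraicCycle.map (sm f) δX δY α y =
      ∑ x ∈ s, if sm f x = y then α x * ((sm f).residueDegree x : ℤ) else 0 := by
    intro y
    rw [Push.map_apply, finsum_mem_def, finsum_eq_sum_of_support_subset (s := s)]
    · refine Finset.sum_congr rfl fun x _ => ?_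
      by_cases hx : sm f x = y
      · rw [if_pos hx, Set.indicator_of_mem (show x ∈ {x | (sm f) x = y} from hx),
          mapCoeff_eq f δX hδX δY hδY]
      · rw [if_neg hx, Set.indicator_of_notMem (show x ∉ {x | (sm f) x = y} from hx)]
    · intro x hx
      apply hs
      rw [Function.mem_support] at hx ⊢
      intro h
      apply hx
      by_cases hx : x ∈ {x | (sm f) x = y}
      · rw [Set.indicator_of_mem hx, h, zero_mul]
      · rw [Set.indicator_of_notMem hx]
  rw [clCyc_eq_sum T Y _ (s.image (sm f))]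
  · have h2 : ∀ y ∈ s.image (sm f), ((AlgebraicCycle.map (sm f) δX δY α y : ℤ) : K) • T.cl Y y =
        ∑ x ∈ s, if sm f x = y then
          (((α x : ℤ) : K) * ((sm f).residueDegree x : K)) • T.cl Y (sm f x) else 0 := by
      intro y _
      rw [h1, Int.cast_sum, Finset.sum_smul]
      refine Finset.sum_congr rfl fun x _ => ?_
      by_cases hx : sm f x = y
      · rw [if_pos hx, if_pos hx, hx]; push_cast; rfl
      · rw [if_neg hx, if_neg hx]; simp
    rw [Finset.sum_congr rfl h2, Finset.sum_comm]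
    refine Finset.sum_congr rfl fun x hx => ?_
    rw [Finset.sum_ite_eq, if_pos (Finset.mem_image_of_mem _ hx)]
  · intro y hy
    rw [Function.mem_support, h1] at hy
    by_contra hcon
    apply hy
    apply Finset.sum_eq_zero
    intro x hx
    rw [if_neg]
    rintro rfl
    exact hcon (Finset.mem_image_of_mem _ hx)

theorem tr_clCyc_map {X Y : Var k} (f : X ⟶ Y) [QuasiCompact (sm f)]
    (δX : ↥X.obj.left → ℤ) (hδX : Cyc.DeltaCompat X.obj.hom δX (fun _ => 0))
    (δY : ↥Y.obj.left → ℤ) (hδY : Cyc.DeltaCompat Y.obj.hom δY (fun _ => 0))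
    (α : AlgebraicCycle X.obj.left ℤ) (b : T.H Y) :
    T.tr Y (T.clCyc Y (AlgebraicCycle.map (sm f) δX δY α) * b) =
      T.tr X (T.clCyc X α * T.pull f b) := by
  have hs : Function.support α ⊆ (finite_support X α).toFinset := by simp
  rw [clCyc_map T f δX hδX δY hδY α _ hs, clCyc_eq_sum T X α _ hs, Finset.sum_mul, Finset.sum_mul,
    map_sum, map_sum]
  refine Finset.sum_congr rfl fun x _ => ?_
  rw [smul_mul_assoc, smul_mul_assoc, map_smul, map_smul, Dim.cl_push_all T f x b]
  simp only [smul_eq_mul]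
  ring

theorem deltaCompat_pt : Cyc.DeltaCompat (Point.pt k).obj.hom (fun _ => (0 : ℤ)) (fun _ => 0) := by
  rw [RelDim.deltaCompat_iff]
  intro x
  refine ⟨0, ?_, by simp⟩
  rw [(Dim.rtd_eq_pdim (Point.pt k).obj.hom x).1, Point.pdim_pt]

/-- the degree of a cycle is the trace of its class -/
theorem deg_eq (X : Var k) [QuasiCompact X.obj.hom]
    (δ : ↥X.obj.left → ℤ) (hδ : Cyc.DeltaCompat X.obj.hom δ (fun _ => 0))
    (α : AlgebraicCycle X.obj.left ℤ) :
    (ChowOps.deg X.obj.hom δ α : K) = T.tr X (T.clCyc X α) := by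
  have hq : QuasiCompact (sm (Point.toPt X)) := inferInstanceAs (QuasiCompact X.obj.hom)
  have h := tr_clCyc_map T (Point.toPt X) δ hδ (fun _ => (0 : ℤ)) deltaCompat_pt α 1
  rw [map_one, mul_one, mul_one] at h
  rw [← h]
  let o : (Point.pt k).obj.left := (IsLocalRing.closedPoint k : PrimeSpectrum k)
  rw [clCyc_eq_sum T (Point.pt k) _ {o}
    (fun x _ => by
      rw [Finset.coe_singleton, Set.mem_singleton_iff]; exact Subsingleton.elim _ _)]
  rw [Finset.sum_singleton, map_smul, Point.cl_pt, Point.tr_pt, smul_eq_mul, mul_one]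
  rfl

theorem clCyc_mem (X : Var k) (δ : ↥X.obj.left → ℤ) (hδ : Cyc.DeltaCompat X.obj.hom δ (fun _ => 0))
    (r : ℤ) (α : AlgebraicCycle X.obj.left ℤ) (hα : α ∈ Cyc.Zk X.obj.left δ r) :
    T.clCyc X α ∈ T.gr X (2 * (WeilCoh.dim X.obj.left - r)) := by
  have hs : Function.support α ⊆ (finite_support X α).toFinset := by simp
  rw [clCyc_eq_sum T X α _ hs]
  refine Submodule.sum_mem _ fun x hx => Submodule.smul_mem _ _ ?_
  have hx' : α x ≠ 0 := by simpa using hx
  have h1 : δ x = r := by
    by_contra h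
    exact hx' (hα x h)
  have h2 := delta_eq_pdim X.obj.hom δ hδ x
  have h3 := Dim.codim_eq X x
  have h4 : (2 * ((WeilCoh.dim X.obj.left : ℤ) - r)) = 2 * (codim X.obj.left x : ℤ) := by
    rw [h3, ← h2, h1]
  rw [h4]
  exact T.cl_mem X x

end Theory

end K861.Cycle
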