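import Groth.Prelude.Def_WeilCoh

/-!
# Weil cohomology theories: nondegeneracy, push-forward, products (no geometry)
-/

set_option autoImplicit false

universe u v w

open CategoryTheory AlgebraicGeometry TensorProduct WeilCoh

namespace K861.Basic

variable {k : Type u} [Field k] {P : ObjectProperty (Over (Spec (CommRingCat.of k)))}
variable {K : Type v} [Field K] (T : TheoryOn.{u, v, w} k P K)

theorem pairing_apply {A : Type w} [Ring A] [Algebra K A] (S T' : Submodule K A) (t : A →ₗ[K] K)
    (a : S) (b : T') : pairing K S T' t a b = t ((a : A) * (b : A)) := rfl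

/-- homogeneous induction -/
theorem hom_induction {X : P.FullSubcategory} {p : T.H X → Prop}
    (hom : ∀ (i : ℤ) (a : T.H X), a ∈ T.gr X i → p a) (zero : p 0)
    (add : ∀ a b, p a → p b → p (a + b)) (a : T.H X) : p a := by
  have h : a ∈ ⨆ i, T.gr X i := by
    rw [(T.decomp X).submodule_iSup_eq_top]; trivial
  exact Submodule.iSup_induction (T.gr X) (motive := p) h hom zero add

theorem one_mem (X : P.FullSubcategory) : (1 : T.H X) ∈ T.gr X 0 := SetLike.one_mem_graded (T.gr X)

theorem tr_of_ne {X : P.FullSubcategory} {i : ℤ} {a : T.H X} (ha : a ∈ T.gr X i)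
    (h : i ≠ 2 * (WeilCoh.dim X.obj.left : ℤ)) : T.tr X a = 0 := T.tr_vanish X i a ha h

theorem eq_zero_of_lt {X : P.FullSubcategory} {i : ℤ} {a : T.H X} (ha : a ∈ T.gr X i)
    (h : i < 0 ∨ (2 * (WeilCoh.dim X.obj.left : ℤ)) < i) : a = 0 := by
  have := T.vanish X i h
  rw [this] at ha
  exact (Submodule.mem_bot K).1 ha

theorem mul_mem {X : P.FullSubcategory} {i j : ℤ} {a b : T.H X} (ha : a ∈ T.gr X i)
    (hb : b ∈ T.gr X j) : a * b ∈ T.gr X (i + j) := SetLike.mul_mem_graded ha hb

/-- graded nondegeneracy -/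
theorem eq_zero_of_tr_hom {X : P.FullSubcategory} {i j : ℤ} (h : i + j = 2 * (WeilCoh.dim X.obj.left : ℤ)) {a : T.H X}
    (ha : a ∈ T.gr X i) (H : ∀ b ∈ T.gr X j, T.tr X (a * b) = 0) : a = 0 := by
  have hp := (T.duality X i j h).bijective_left.injective
  have : (⟨a, ha⟩ : T.gr X i) = 0 := by
    apply hp
    ext b
    rw [map_zero]
    exact H b b.2
  exact congrArg Subtype.val this

/-- nondegeneracy of the total pairing -/
theorem eq_zero_of_tr {X : P.FullSubcategory} {a : T.H X} (H : ∀ b, T.tr X (a * b) = 0) : a = 0 := by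
  classical
  let _ := (T.decomp X).chooseDecomposition
  -- each component vanishes
  have key : ∀ i, ((DirectSum.decompose (T.gr X) a i : T.gr X i) : T.H X) = 0 := by
    intro i
    apply eq_zero_of_tr_hom T (i := i) (j := (2 * (WeilCoh.dim X.obj.left : ℤ)) - i) (by ring) (SetLike.coe_mem _)
    intro b hb
    have : T.tr X (a * b) = T.tr X (((DirectSum.decompose (T.gr X) a i : T.gr X i) : T.H X) * b) := by
      clear H
      induction a using hom_induction T with
      | hom j c hc =>
        by_cases hij : j = i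
        · subst hij
          rw [DirectSum.decompose_of_mem_same _ hc]
        · rw [DirectSum.decompose_of_mem_ne _ hc hij, zero_mul, map_zero]
          exact tr_of_ne T (mul_mem T hc hb) (by omega)
      | zero => simp
      | add c d hc hd =>
        rw [DirectSum.decompose_add, DirectSum.add_apply, Submodule.coe_add, add_mul, add_mul,
          map_add, map_add, hc, hd]
    rw [← this]
    exact H b
  rw [← DirectSum.sum_support_decompose (T.gr X) a]
  exact Finset.sum_eq_zero fun i _ => key i

theorem eq_of_tr {X : P.FullSubcategory} {a a' : T.H X}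
    (H : ∀ b, T.tr X (a * b) = T.tr X (a' * b)) : a = a' := by
  rw [← sub_eq_zero]
  apply eq_zero_of_tr T
  intro b
  rw [sub_mul, map_sub, H, sub_self]

/-- it is enough to test on homogeneous classes -/
theorem eq_of_tr_hom {X : P.FullSubcategory} {a a' : T.H X}
    (H : ∀ (j : ℤ) (b : T.H X), b ∈ T.gr X j → T.tr X (a * b) = T.tr X (a' * b)) : a = a' := by
  apply eq_of_tr T
  intro b
  induction b using hom_induction T with
  | hom i b hb => exact H i b hb
  | zero => simp
  | add c d hc hd => rw [mul_add, mul_add, map_add, map_add, hc, hd]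

theorem pull_id_apply {X : P.FullSubcategory} (a : T.H X) : T.pull (𝟙 X) a = a := by
  rw [T.pull_id]; rfl

theorem pull_comp_apply {X Y Z : P.FullSubcategory} (f : X ⟶ Y) (g : Y ⟶ Z) (a : T.H Z) :
    T.pull (f ≫ g) a = T.pull f (T.pull g a) := by
  rw [T.pull_comp]; rfl

@[simp] theorem coe_pullDeg {X Y : P.FullSubcategory} (f : X ⟶ Y) (i : ℤ) (a : T.gr Y i) :
    (T.pullDeg f i a : T.H X) = T.pull f (a : T.H Y) := rfl

theorem pushFunctional_apply {X Y : P.FullSubcategory} (f : X ⟶ Y) (i : ℤ) (a : T.gr X i)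
    (b : T.gr Y ((2 * (WeilCoh.dim X.obj.left : ℤ)) - i)) :
    T.pushFunctional f i a b = T.tr X ((a : T.H X) * T.pull f (b : T.H Y)) := rfl

theorem tr_push_mul_hom {X Y : P.FullSubcategory} (f : X ⟶ Y) (i : ℤ) (a : T.gr X i)
    (b : T.gr Y ((2 * (WeilCoh.dim X.obj.left : ℤ)) - i)) :
    T.tr Y ((T.push f i a : T.H Y) * (b : T.H Y)) = T.tr X ((a : T.H X) * T.pull f (b : T.H Y)) := by
  have := T.duality Y (i + (2 * (WeilCoh.dim Y.obj.left : ℤ)) - (2 * (WeilCoh.dim X.obj.left : ℤ))) ((2 * (WeilCoh.dim X.obj.left : ℤ)) - i) (by ring)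
  have h1 : T.tr Y ((T.push f i a : T.H Y) * (b : T.H Y)) =
      (pairing K (T.gr Y (i + (2 * (WeilCoh.dim Y.obj.left : ℤ)) - (2 * (WeilCoh.dim X.obj.left : ℤ)))) (T.gr Y ((2 * (WeilCoh.dim X.obj.left : ℤ)) - i)) (T.tr Y)).toPerfPair
        (T.push f i a) b := rfl
  rw [h1]
  have h2 : (pairing K (T.gr Y (i + (2 * (WeilCoh.dim Y.obj.left : ℤ)) - (2 * (WeilCoh.dim X.obj.left : ℤ)))) (T.gr Y ((2 * (WeilCoh.dim X.obj.left : ℤ)) - i)) (T.tr Y)).toPerfPair
      (T.push f i a) = T.pushFunctional f i a := by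
    exact LinearEquiv.apply_symm_apply _ _
  rw [h2]
  rfl

/-- The push-forward is characterised by the trace, with no condition on the degree of the test class. -/
theorem tr_push_mul {X Y : P.FullSubcategory} (f : X ⟶ Y) (i : ℤ) (a : T.gr X i) (b : T.H Y) :
    T.tr Y ((T.push f i a : T.H Y) * b) = T.tr X ((a : T.H X) * T.pull f b) := by
  induction b using hom_induction T with
  | hom j b hb =>
    by_cases hj : j = (2 * (WeilCoh.dim X.obj.left : ℤ)) - i
    · subst hj
      exact tr_push_mul_hom T f i a ⟨b, hb⟩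
    · rw [tr_of_ne T (mul_mem T (T.push f i a).2 hb) (by omega),
        tr_of_ne T (mul_mem T a.2 (T.pull_mem f j b hb)) (by omega)]
  | zero => simp
  | add c d hc hd => rw [mul_add, map_add, map_add, mul_add, map_add, hc, hd]

/-- the push-forward of `a` is `c` as soon as the traces agree -/
theorem push_eq_of {X Y : P.FullSubcategory} (f : X ⟶ Y) (i : ℤ) (a : T.gr X i) (c : T.H Y)
    (H : ∀ (j : ℤ) (b : T.H Y), b ∈ T.gr Y j →
      T.tr X ((a : T.H X) * T.pull f b) = T.tr Y (c * b)) :
    (T.push f i a : T.H Y) = c := by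
  apply eq_of_tr_hom T
  intro j b hb
  rw [tr_push_mul]
  exact H j b hb

theorem push_eq_of' {X Y : P.FullSubcategory} (f : X ⟶ Y) (i : ℤ) (a : T.gr X i) (c : T.H Y)
    (H : ∀ b : T.H Y, T.tr X ((a : T.H X) * T.pull f b) = T.tr Y (c * b)) :
    (T.push f i a : T.H Y) = c :=
  push_eq_of T f i a c fun _ b _ => H b

/-! ### signs -/

theorem comm_of_even {X : P.FullSubcategory} {i : ℤ} (hi : Even i) {a : T.H X}
    (ha : a ∈ T.gr X i) (b : T.H X) : a * b = b * a := by
  induction b using hom_induction T with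
  | hom j b hb =>
    rw [T.gradedComm X i j a b ha hb]
    have : Even (i.natAbs * j.natAbs) := (Int.natAbs_even.2 hi).mul_right _
    rw [this.neg_one_pow, one_smul]
  | zero => simp
  | add c d hc hd => rw [mul_add, add_mul, hc, hd]

theorem comm_two_mul {X : P.FullSubcategory} {i : ℤ} {a : T.H X}
    (ha : a ∈ T.gr X (2 * i)) (b : T.H X) : a * b = b * a :=
  comm_of_even T (even_two_mul i) ha b

/-! ### the degree 0 and top degree -/

theorem nontrivial (X : P.FullSubcategory) : Nontrivial (T.H X) := by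
  obtain ⟨a, ha⟩ := (T.tr_bijective X).2 1
  refine ⟨(a : T.H X), 0, ?_⟩
  intro h
  have : T.tr X (a : T.H X) = 1 := ha
  rw [h, map_zero] at this
  exact zero_ne_one this

theorem exists_tr_eq_one (X : P.FullSubcategory) : ∃ a ∈ T.gr X (2 * (WeilCoh.dim X.obj.left : ℤ)), T.tr X a = 1 := by
  obtain ⟨a, ha⟩ := (T.tr_bijective X).2 1
  exact ⟨a, a.2, ha⟩

theorem eq_of_tr_top {X : P.FullSubcategory} {a b : T.H X} (ha : a ∈ T.gr X (2 * (WeilCoh.dim X.obj.left : ℤ)))
    (hb : b ∈ T.gr X (2 * (WeilCoh.dim X.obj.left : ℤ))) (h : T.tr X a = T.tr X b) : a = b := by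
  have := (T.tr_bijective X).1 (a₁ := ⟨a, ha⟩) (a₂ := ⟨b, hb⟩) h
  exact congrArg Subtype.val this

/-- every class of degree 0 is a scalar -/
theorem exists_smul_one {X : P.FullSubcategory} {a : T.H X} (ha : a ∈ T.gr X 0) :
    ∃ c : K, a = c • 1 := by
  obtain ⟨t, ht, ht1⟩ := exists_tr_eq_one T X
  refine ⟨T.tr X (a * t), ?_⟩
  apply eq_of_tr_hom T
  intro j b hb
  by_cases hj : j = 2 * (WeilCoh.dim X.obj.left : ℤ)
  · subst hj
    have hb' : b = T.tr X b • t := by
      apply eq_of_tr_top T hb (Submodule.smul_mem _ _ ht)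
      rw [map_smul, ht1, smul_eq_mul, mul_one]
    rw [hb', mul_smul_comm, map_smul, smul_mul_assoc, one_mul, map_smul, map_smul, ht1]
    simp [mul_comm]
  · rw [tr_of_ne T (mul_mem T ha hb) (by omega)]
    rw [smul_mul_assoc, one_mul, map_smul, tr_of_ne T hb hj, smul_zero]

/-! ### products -/

section Prod

variable {X Y Q : P.FullSubcategory} {p : Q ⟶ X} {q : Q ⟶ Y}

include T in
theorem dim_prod (hQ : IsProd p q) :
    WeilCoh.dim Q.obj.left = WeilCoh.dim X.obj.left + WeilCoh.dim Y.obj.left := by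
  obtain ⟨a, ha, ha1⟩ := exists_tr_eq_one T X
  obtain ⟨b, hb, hb1⟩ := exists_tr_eq_one T Y
  have h := T.tr_prod p q hQ a b ha hb
  rw [ha1, hb1, one_mul] at h
  by_contra hne
  have h0 := tr_of_ne T (mul_mem T (T.pull_mem p _ a ha) (T.pull_mem q _ b hb)) (by omega)
  rw [h0] at h
  exact zero_ne_one h

include T in
theorem dim_prod_int (hQ : IsProd p q) :
    (WeilCoh.dim Q.obj.left : ℤ) = WeilCoh.dim X.obj.left + WeilCoh.dim Y.obj.left := by
  rw [dim_prod T hQ]; push_cast; rfl

theorem tr_pull_mul_pull (hQ : IsProd p q) (a : T.H X) (b : T.H Y) :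
    T.tr Q (T.pull p a * T.pull q b) = T.tr X a * T.tr Y b := by
  have hd := dim_prod_int T hQ
  induction a using hom_induction T with
  | hom i a ha =>
    induction b using hom_induction T with
    | hom j b hb =>
      by_cases hi : i = 2 * (WeilCoh.dim X.obj.left : ℤ)
      · by_cases hj : j = 2 * (WeilCoh.dim Y.obj.left : ℤ)
        · subst hi hj
          exact T.tr_prod p q hQ a b ha hb
        · rw [tr_of_ne T hb hj, mul_zero]
          exact tr_of_ne T (mul_mem T (T.pull_mem p _ a ha) (T.pull_mem q _ b hb)) (by omega)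
      · rw [tr_of_ne T ha hi, zero_mul]
        by_cases hij : i + j = 2 * (WeilCoh.dim Q.obj.left : ℤ)
        · by_cases hi' : (2 * (WeilCoh.dim X.obj.left : ℤ)) < i
          · rw [eq_zero_of_lt T ha (Or.inr hi'), map_zero, zero_mul, map_zero]
          · rw [eq_zero_of_lt T hb (Or.inr (by omega)), map_zero, mul_zero, map_zero]
        · exact tr_of_ne T (mul_mem T (T.pull_mem p _ a ha) (T.pull_mem q _ b hb)) hij
    | zero => simp
    | add c d hc hd => rw [map_add, mul_add, map_add, map_add, hc, hd, mul_add]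
  | zero => simp
  | add c d hc hd => rw [map_add, add_mul, map_add, map_add, hc, hd, add_mul]

theorem kunnethMap_tmul {A B C : Type w} [Ring A] [Algebra K A] [Ring B] [Algebra K B] [Ring C]
    [Algebra K C] (p : A →ₐ[K] C) (q : B →ₐ[K] C) (a : A) (b : B) :
    kunnethMap K p q (a ⊗ₜ b) = p a * q b := rfl

/-- Künneth induction -/
theorem kunneth_induction (hQ : IsProd p q) {r : T.H Q → Prop}
    (hom : ∀ (i j : ℤ) (a : T.H X) (b : T.H Y), a ∈ T.gr X i → b ∈ T.gr Y j →
      r (T.pull p a * T.pull q b)) (zero : r 0)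
    (add : ∀ a b, r a → r b → r (a + b)) (c : T.H Q) : r c := by
  obtain ⟨t, rfl⟩ := (T.kunneth p q hQ).2 c
  induction t using TensorProduct.induction_on with
  | zero => rw [map_zero]; exact zero
  | tmul a b =>
    rw [kunnethMap_tmul]
    induction a using hom_induction T with
    | hom i a ha =>
      induction b using hom_induction T with
      | hom j b hb => exact hom i j a b ha hb
      | zero => rw [map_zero, mul_zero]; exact zero
      | add c d hc hd => rw [map_add, mul_add]; exact add _ _ hc hd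
    | zero => rw [map_zero, zero_mul]; exact zero
    | add c d hc hd => rw [map_add, add_mul]; exact add _ _ hc hd
  | add c d hc hd => rw [map_add]; exact add _ _ hc hd

/-- equality of classes on a product can be tested on products of homogeneous classes -/
theorem eq_of_tr_prod (hQ : IsProd p q) {c c' : T.H Q}
    (H : ∀ (i j : ℤ) (a : T.H X) (b : T.H Y), a ∈ T.gr X i → b ∈ T.gr Y j →
      T.tr Q (c * (T.pull p a * T.pull q b)) = T.tr Q (c' * (T.pull p a * T.pull q b))) : c = c' := by
  apply eq_of_tr T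
  intro b
  induction b using kunneth_induction T hQ with
  | hom i j a b ha hb => exact H i j a b ha hb
  | zero => simp
  | add c d hc hd => rw [mul_add, mul_add, map_add, map_add, hc, hd]

end Prod

end K861.Basic
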