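import Groth.Agent.WeilCoh.K861.Dim
import Groth.Agent.Dix.GenFibre
import Groth.Agent.Flat2B.SmoothGeom
import Groth.Agent.CycB.FiberKer
import Mathlib.AlgebraicGeometry.AlgClosed.Basic

/-!
# The point, closed points, the class of the generic point and of closed points
-/

set_option autoImplicit false
set_option linter.unusedSectionVars false

universe u v w

open CategoryTheory AlgebraicGeometry TensorProduct WeilCoh
open Groth.Agent.CycB

namespace K861.Point

section Var

variable (k : Type u) [Field k]

/-- `Spec k` as an object. -/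
noncomputable def pt : Var k :=
  ⟨Over.mk (𝟙 (Spec (CommRingCat.of k))), by
    refine ⟨?_, ⟨1, P1.sect _ 0, P1PtClosure.isClosedImmersion_sect _ _, P1PtClosure.sect_toBase _ 0⟩, ?_⟩
    · change Smooth (𝟙 (Spec (CommRingCat.of k)))
      infer_instance
    · change IrreducibleSpace (PrimeSpectrum k)
      infer_instance⟩

theorem pt_left : (pt k).obj.left = Spec (CommRingCat.of k) := rfl

theorem pt_hom : (pt k).obj.hom = 𝟙 (Spec (CommRingCat.of k)) := rfl

instance : Subsingleton ↥(pt k).obj.left := inferInstanceAs (Subsingleton (PrimeSpectrum k))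

instance : Nonempty ↥(pt k).obj.left := inferInstanceAs (Nonempty (PrimeSpectrum k))

variable {k}

/-- the structure morphism -/
noncomputable def toPt (X : Var k) : X ⟶ pt k :=
  ObjectProperty.homMk (Over.homMk X.obj.hom (Category.comp_id _))

theorem sm_toPt (X : Var k) : sm (toPt X) = X.obj.hom := rfl

theorem pdim_pt (x : (pt k).obj.left) : pdim (pt k).obj.left x = 0 := by
  apply Dim.pdim_of_isClosed
  have : ({x} : Set (pt k).obj.left) = Set.univ :=
    Set.eq_univ_of_forall fun y => Subsingleton.elim y x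
  rw [this]
  exact isClosed_univ

theorem dim_pt : WeilCoh.dim (pt k).obj.left = 0 := by
  rw [← Dim.pdim_genericPoint (pt k), pdim_pt]

instance isProper (X : Var k) : IsProper X.obj.hom :=
  Groth.Agent.Dix.GenFibre.isProper_of_isProjectiveOver X.property.2.1

instance compactSpace (X : Var k) : CompactSpace ↥X.obj.left :=
  QuasiCompact.compactSpace_of_compactSpace X.obj.hom

theorem exists_isClosed (X : Var k) : ∃ x : X.obj.left, IsClosed ({x} : Set X.obj.left) := by
  have : Nonempty ↥X.obj.left := inferInstance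
  obtain ⟨x, -, hx⟩ := (isClosed_univ (X := X.obj.left)).exists_closed_singleton Set.univ_nonempty
  exact ⟨x, hx⟩

instance isReduced (X : Var k) : IsReduced X.obj.left :=
  Groth.Agent.Flat2B.SmoothGeom.isReduced_of_smooth X.obj.hom

instance isIntegral (X : Var k) : IsIntegral X.obj.left :=
  isIntegral_of_irreducibleSpace_of_isReduced _

/-- a closed point over an algebraically closed field, as a morphism -/
noncomputable def ofClosed [IsAlgClosed k] (X : Var k) (x : X.obj.left)
    (hx : IsClosed ({x} : Set X.obj.left)) : pt k ⟶ X :=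
  ObjectProperty.homMk (Over.homMk (pointOfClosedPoint X.obj.hom x hx)
    (pointOfClosedPoint_comp X.obj.hom x hx))

theorem sm_ofClosed_apply [IsAlgClosed k] (X : Var k) (x : X.obj.left)
    (hx : IsClosed ({x} : Set X.obj.left)) (y : (pt k).obj.left) : sm (ofClosed X x hx) y = x :=
  pointOfClosedPoint_apply X.obj.hom x hx y

theorem stalk_pt_isField (y : (pt k).obj.left) : IsField ((pt k).obj.left.presheaf.stalk y) :=
  FiberKer.isField_stalk_Spec_of_isField _ (Field.toIsField k) y

end Var

/-- length one -/
theorem length_quotient_eq_one {A : Type u} [CommRing A] (I : Ideal A) (hI : I.IsMaximal) :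
    Module.length A (A ⧸ I) = 1 := by
  rw [Module.length_eq_one_iff]
  exact (isSimpleModule_iff_isCoatom).2 hI.out

theorem ker_specMap_le {X : Scheme.{u}} (x ξ : X) (h : ξ ⤳ x) :
    RingHom.ker (Cyc.specMap x ξ h) ≤ IsLocalRing.maximalIdeal (X.presheaf.stalk x) :=
  IsLocalRing.le_maximalIdeal (RingHom.ker_ne_top _)

/-- multiplicity one criterion -/
theorem preimMult_eq_one {X Y : Scheme.{u}} (f : X ⟶ Y) (ξ : Y) (w : X)
    (h : f w ∈ closure ({ξ} : Set Y))
    (hm : Ideal.map (f.stalkMap w).hom
      (RingHom.ker (Cyc.specMap (f w) ξ (specializes_iff_mem_closure.mpr h))) =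
        IsLocalRing.maximalIdeal (X.presheaf.stalk w)) :
    preimMult f ξ w h = 1 := by
  unfold preimMult
  rw [hm, length_quotient_eq_one _ (IsLocalRing.maximalIdeal.isMaximal _)]
  rfl

theorem map_ker_specMap_le {X Y : Scheme.{u}} (f : X ⟶ Y) (ξ : Y) (w : X)
    (h : f w ∈ closure ({ξ} : Set Y)) :
    Ideal.map (f.stalkMap w).hom
      (RingHom.ker (Cyc.specMap (f w) ξ (specializes_iff_mem_closure.mpr h))) ≤
        IsLocalRing.maximalIdeal (X.presheaf.stalk w) := by
  refine (Ideal.map_mono (ker_specMap_le _ _ _)).trans ?_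
  have : IsLocalHom (f.stalkMap w).hom := inferInstance
  exact ((IsLocalRing.local_hom_TFAE (f.stalkMap w).hom).out 0 2).1 this

theorem preimMult_pt {k : Type u} [Field k] {Y : Var k} (f : pt k ⟶ Y) (ξ : Y.obj.left)
    (w : (pt k).obj.left) (h : sm f w ∈ closure ({ξ} : Set Y.obj.left)) :
    preimMult (sm f) ξ w h = 1 := by
  apply preimMult_eq_one
  refine le_antisymm (map_ker_specMap_le _ _ _ h) ?_
  rw [(IsLocalRing.isField_iff_maximalIdeal_eq).mp (stalk_pt_isField w)]
  exact bot_le

section AlgClosed

variable {k : Type u} [Field k] [IsAlgClosed k] {K : Type v} [Field K] [CharZero K] (T : Theory k K)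

theorem cl_pt (x : (pt k).obj.left) : T.cl (pt k) x = 1 := (T.point (pt k) dim_pt).1 x

theorem tr_pt : T.tr (pt k) 1 = 1 := (T.point (pt k) dim_pt).2

/-- the class of the generic point -/
theorem cl_genericPoint (X : Var k) : T.cl X (genericPoint ↥X.obj.left) = 1 := by
  obtain ⟨x, hx⟩ := exists_isClosed X
  let i := ofClosed X x hx
  have hcl : closure ({genericPoint ↥X.obj.left} : Set X.obj.left) = Set.univ :=
    genericPoint_closure _
  have h := T.cl_pull i (genericPoint ↥X.obj.left) (fun w _ => by
    rw [pdim_pt, Dim.pdim_genericPoint, dim_pt]; simp) (Or.inr fun w hw => preimMult_pt _ _ _ _)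
  have h2 : T.pull i (T.cl X (genericPoint ↥X.obj.left)) = 1 := by
    rw [h]
    let y : (pt k).obj.left := Classical.arbitrary _
    have hy : IsCompPt ((sm i) ⁻¹' closure ({genericPoint ↥X.obj.left} : Set X.obj.left)) y := by
      refine ⟨?_, fun w' _ _ => Subsingleton.elim _ _⟩
      rw [hcl]; trivial
    rw [finsum_eq_single _ (⟨y, hy⟩ : {w : (pt k).obj.left //
      IsCompPt ((sm i) ⁻¹' closure ({genericPoint ↥X.obj.left} : Set X.obj.left)) w})
      (fun z hz => absurd (Subtype.ext (Subsingleton.elim _ _)) hz)]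
    rw [preimMult_pt, cl_pt]
    simp
  have hmem : T.cl X (genericPoint ↥X.obj.left) ∈ T.gr X 0 := by
    have := T.cl_mem X (genericPoint ↥X.obj.left)
    rw [Dim.codim_genericPoint] at this
    simpa using this
  obtain ⟨c, hc⟩ := Basic.exists_smul_one T hmem
  rw [hc, map_smul, map_one] at h2
  have := Basic.nontrivial T (pt k)
  have hc1 : c = 1 := smul_left_injective K (one_ne_zero (α := T.H (pt k))) (by simpa using h2)
  rw [hc, hc1, one_smul]

/-- the class of a closed point -/
theorem tr_cl_closed (X : Var k) (x : X.obj.left) (hx : IsClosed ({x} : Set X.obj.left)) :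
    T.tr X (T.cl X x) = 1 := by
  have h := Dim.cl_push_all T (toPt X) x 1
  have h1 : (sm (toPt X)).residueDegree x = 1 :=
    Groth.Agent.CurvesA.ResDegOne.residueDegree_eq_one X.obj.hom x hx
  rw [map_one, mul_one, mul_one, cl_pt, tr_pt, h1] at h
  simpa using h

/-- the residue degree of a section -/
theorem residueDegree_section {X P : Var k} (j : X ⟶ P) (p : P ⟶ X) (h : j ≫ p = 𝟙 X)
    (x : X.obj.left) : (sm j).residueDegree x = 1 := by
  have h1 : sm j ≫ sm p = 𝟙 _ := congrArg (fun t => sm t) h
  have h2 := Push.residueDegree_comp (sm j) (sm p) x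
  rw [h1, Scheme.Hom.residueDegree_id] at h2
  exact Nat.eq_one_of_mul_eq_one_left h2.symm

/-- integration over the image of a section -/
theorem tr_cl_section_mul {X P : Var k} (j : X ⟶ P) (p : P ⟶ X) (h : j ≫ p = 𝟙 X)
    (x : X.obj.left) (c : T.H P) :
    T.tr P (T.cl P (sm j x) * c) = T.tr X (T.cl X x * T.pull j c) := by
  have h1 := Dim.cl_push_all T j x c
  rw [residueDegree_section j p h] at h1
  rw [h1]; simp

theorem tr_cl_section_generic_mul {X P : Var k} (j : X ⟶ P) (p : P ⟶ X) (h : j ≫ p = 𝟙 X)
    (c : T.H P) :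
    T.tr P (T.cl P (sm j (genericPoint ↥X.obj.left)) * c) = T.tr X (T.pull j c) := by
  rw [tr_cl_section_mul T j p h, cl_genericPoint, one_mul]

end AlgClosed

end K861.Point
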