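import Groth.Agent.WeilCoh.K861.Lefschetz
import Groth.Agent.WeilCoh.K861.Point

/-!
# Graphs and their classes
-/

set_option autoImplicit false
set_option linter.unusedSectionVars false

universe u v w

open CategoryTheory AlgebraicGeometry TensorProduct WeilCoh K861.Total K861.Lefschetz

namespace K861.Graph

variable {k : Type u} [Field k]

theorem isProd_symm {P : ObjectProperty (Over (Spec (CommRingCat.of k)))} {X Y Q : P.FullSubcategory}
    {p : Q ⟶ X} {q : Q ⟶ Y} (h : IsProd p q) : IsProd q p := IsPullback.flip h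

/-- morphisms into a product -/
noncomputable def lift {P : ObjectProperty (Over (Spec (CommRingCat.of k)))} {X Y Q Z : P.FullSubcategory}
    {p : Q ⟶ X} {q : Q ⟶ Y} (h : IsProd p q) (a : Z ⟶ X) (b : Z ⟶ Y) : Z ⟶ Q :=
  ObjectProperty.homMk (Over.homMk (IsPullback.lift h (sm a) (sm b)
    ((Over.w a.hom).trans (Over.w b.hom).symm)) (by
      have h1 : sm p ≫ X.obj.hom = Q.obj.hom := Over.w p.hom
      rw [← h1, ← Category.assoc]
      have h2 : h.lift (sm a) (sm b) ((Over.w a.hom).trans (Over.w b.hom).symm) ≫ sm p = sm a :=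
        IsPullback.lift_fst _ _ _ _
      rw [h2]
      exact Over.w a.hom))

section lift

variable {P : ObjectProperty (Over (Spec (CommRingCat.of k)))} {X Y Q Z : P.FullSubcategory}
    {p : Q ⟶ X} {q : Q ⟶ Y} (h : IsProd p q)

theorem lift_fst (a : Z ⟶ X) (b : Z ⟶ Y) : lift h a b ≫ p = a := by
  apply ObjectProperty.hom_ext
  apply Over.OverMorphism.ext
  exact IsPullback.lift_fst h _ _ _

theorem lift_snd (a : Z ⟶ X) (b : Z ⟶ Y) : lift h a b ≫ q = b := by
  apply ObjectProperty.hom_ext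
  apply Over.OverMorphism.ext
  exact IsPullback.lift_snd h _ _ _

include h in
theorem hom_ext {a b : Z ⟶ Q} (h1 : a ≫ p = b ≫ p) (h2 : a ≫ q = b ≫ q) : a = b := by
  apply ObjectProperty.hom_ext
  apply Over.OverMorphism.ext
  exact IsPullback.hom_ext h (congrArg (fun t => sm t) h1) (congrArg (fun t => sm t) h2)

end lift

variable [IsAlgClosed k] {K : Type v} [Field K] [CharZero K] (T : Theory k K)

/-- the class of the image of a section of `X × Y → X` has degree `2 dim Y` -/
theorem cl_section_mem {X Y Q : Var k} {p : Q ⟶ X} {q : Q ⟶ Y} (hQ : IsProd p q) (j : X ⟶ Q)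
    (hj : j ≫ p = 𝟙 X) :
    T.cl Q (sm j (genericPoint ↥X.obj.left)) ∈ T.gr Q (2 * (WeilCoh.dim Y.obj.left : ℤ)) := by
  have h1 := T.cl_mem Q (sm j (genericPoint ↥X.obj.left))
  have h2 := Dim.codim_eq Q (sm j (genericPoint ↥X.obj.left))
  have h3 := Dim.pdim_of_residueDegree_ne_zero j (genericPoint ↥X.obj.left)
    (by rw [Point.residueDegree_section j p hj]; exact one_ne_zero)
  rw [Dim.pdim_genericPoint] at h3
  have h4 := Basic.dim_prod_int T hQ
  rw [← h3, h4] at h2
  rw [h2] at h1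
  convert h1 using 2
  ring

/-- the action of the class of a graph through the second projection is the pull-back -/
theorem corr_graph {X Y Q : Var k} {p : Q ⟶ X} {q : Q ⟶ Y} (j : X ⟶ Q)
    (hj : j ≫ p = 𝟙 X) (φ : X ⟶ Y) (hq : j ≫ q = φ) (x : T.H Y) :
    corr T q p (T.cl Q (sm j (genericPoint ↥X.obj.left))) x = T.pull φ x := by
  apply Basic.eq_of_tr T
  intro y
  rw [tr_corr_mul, ← Basic.comm_two_mul T (T.cl_mem Q (sm j (genericPoint ↥X.obj.left))), mul_assoc,
    Point.tr_cl_section_generic_mul T j p hj, map_mul, ← Basic.pull_comp_apply, ← Basic.pull_comp_apply,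
    hj, hq, Basic.pull_id_apply]

/-- the Lefschetz trace formula -/
theorem lefschetz {X Q : Var k} {p q : Q ⟶ X} (hQ : IsProd p q) (j d : X ⟶ Q) (φ : X ⟶ X)
    (hjp : j ≫ p = 𝟙 X) (hjq : j ≫ q = φ) (hdp : d ≫ p = 𝟙 X) (hdq : d ≫ q = 𝟙 X) :
    T.tr Q (T.cl Q (sm j (genericPoint ↥X.obj.left)) * T.cl Q (sm d (genericPoint ↥X.obj.left))) =
      ∑ i ∈ Finset.range (2 * WeilCoh.dim X.obj.left + 1),
        (-1 : K) ^ i * LinearMap.trace K ↥(T.gr X (i : ℤ)) (T.pullDeg φ (i : ℤ)) := by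
  rw [Basic.comm_two_mul T (T.cl_mem Q (sm j (genericPoint ↥X.obj.left))),
    Point.tr_cl_section_generic_mul T d p hdp,
    tr_diag T (isProd_symm hQ) d hdq hdp _ (cl_section_mem T hQ j hjp), str_apply]
  refine Finset.sum_congr rfl fun i _ => ?_
  congr 1
  refine (gtr_eq_of T _ _ fun x => ?_).symm
  rw [corr_graph T j hjp φ hjq]
  rfl

/-- an involution of a product preserves classes of closed subsets: `σ^* cl(ξ) = cl(σ ξ)` when `σ` is an
involution preserving the trace -/
theorem pull_involution {Q : Var k} (σ : Q ⟶ Q) (h : σ ≫ σ = 𝟙 Q)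
    (htr : ∀ c, T.tr Q (T.pull σ c) = T.tr Q c) (ξ : Q.obj.left) :
    T.pull σ (T.cl Q ξ) = T.cl Q (sm σ ξ) := by
  apply Basic.eq_of_tr T
  intro b
  have h1 : T.pull σ (T.cl Q ξ) * b = T.pull σ (T.cl Q ξ * T.pull σ b) := by
    rw [map_mul, ← Basic.pull_comp_apply, h, Basic.pull_id_apply]
  rw [h1, htr, Dim.cl_push_all T σ ξ b, Point.residueDegree_section σ σ h]
  simp

end K861.Graph
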