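import Groth.Agent.WeilCoh.K861.Count
import Groth.Agent.S13056
import Mathlib.LinearAlgebra.Matrix.Charpoly.LinearMap
import Mathlib.LinearAlgebra.Matrix.Charpoly.Coeff

/-!
# The zeta function as a product of characteristic polynomials
-/

set_option autoImplicit false

universe u v w

open CategoryTheory AlgebraicGeometry WeilCoh PowerSeries
open Groth.Agent.MiscA.ZetaAbsCx

namespace K861.ZetaProd

section LinAlg

variable {K : Type u} [Field K] [CharZero K] {V : Type v} [AddCommGroup V] [Module K V]
  [Module.Finite K V]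

theorem coe_reverse_charpoly (φ : V →ₗ[K] V) :
    LogD ((φ.charpoly.reverse : Polynomial K) : PowerSeries K)
      (PowerSeries.mk fun m => if m = 0 then 0 else -LinearMap.trace K V (φ ^ m)) ∧
    constantCoeff ((φ.charpoly.reverse : Polynomial K) : PowerSeries K) = 1 := by
  classical
  let b := Module.finBasis K V
  let M := LinearMap.toMatrix b b φ
  have h1 : φ.charpoly.reverse = M.charpolyRev := by
    rw [← LinearMap.charpoly_toMatrix φ b, Matrix.reverse_charpoly]
  have h2 : (PowerSeries.mk fun m => if m = 0 then 0 else -LinearMap.trace K V (φ ^ m)) =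
      PowerSeries.mk fun m => if m = 0 then 0 else -Matrix.trace (M ^ m) := by
    ext m
    rw [coeff_mk, coeff_mk, LinearMap.trace_eq_matrix_trace K b, LinearMap.toMatrix_pow]
  rw [h1, h2]
  exact (K466.LogD.exp_eq_iff (fun m => -(Matrix.trace (M ^ m))) _).1
    (Groth.Agent.S13056.result M).symm

end LinAlg

section Alg

variable {K : Type u} [Field K] [CharZero K]

/-- product formula from the trace formula -/
theorem mul_prod_eq_prod {V : ℕ → Type v} [∀ i, AddCommGroup (V i)] [∀ i, Module K (V i)]
    [∀ i, Module.Finite K (V i)] (φ : ∀ i, V i →ₗ[K] V i) (n : ℕ) (a : ℕ → ℚ) (Z : PowerSeries ℚ)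
    (hZ : LogD Z (PowerSeries.mk a)) (hZ1 : constantCoeff Z = 1) (ha0 : a 0 = 0)
    (h : ∀ m, m ≠ 0 → ((a m : ℚ) : K) = ∑ i ∈ Finset.range (2 * n + 1),
      (-1 : K) ^ i * LinearMap.trace K (V i) (φ i ^ m)) :
    PowerSeries.map (algebraMap ℚ K) Z *
      (∏ i ∈ Finset.range (n + 1), (((φ (2 * i)).charpoly.reverse : Polynomial K) : PowerSeries K)) =
      ∏ i ∈ Finset.range n,
        (((φ (2 * i + 1)).charpoly.reverse : Polynomial K) : PowerSeries K) := by
  have h1 : LogD (PowerSeries.map (algebraMap ℚ K) Z)
      (PowerSeries.map (algebraMap ℚ K) (PowerSeries.mk a)) := hZ.map (algebraMap ℚ K)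
  have h2 := LogD.prod (Finset.range (n + 1))
    (fun i => (((φ (2 * i)).charpoly.reverse : Polynomial K) : PowerSeries K)) _
    (fun i _ => (coe_reverse_charpoly (φ (2 * i))).1)
  have h3 := LogD.prod (Finset.range n)
    (fun i => (((φ (2 * i + 1)).charpoly.reverse : Polynomial K) : PowerSeries K)) _
    (fun i _ => (coe_reverse_charpoly (φ (2 * i + 1))).1)
  have h4 := h1.mul h2
  refine K466.LogD.ext h4 (v := _) ?_ ?_ ?_
  · convert h3 using 1
    ext m
    rw [map_add, PowerSeries.coeff_map, coeff_mk, map_sum, map_sum]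
    simp only [coeff_mk]
    by_cases hm : m = 0
    · subst hm
      simp [ha0]
    · simp only [hm, if_false]
      have h5 : (algebraMap ℚ K) (a m) = ((a m : ℚ) : K) := by simp
      rw [h5, h m hm]
      clear h5 h4 h3 h2 h1
      have key : ∀ (c : ℕ → K) (n : ℕ), ∑ i ∈ Finset.range (2 * n + 1), (-1 : K) ^ i * c i +
          ∑ i ∈ Finset.range (n + 1), -c (2 * i) = ∑ i ∈ Finset.range n, -c (2 * i + 1) := by
        intro c n
        induction n with
        | zero => simp
        | succ n ih =>
          rw [show 2 * (n + 1) + 1 = (2 * n + 1) + 1 + 1 by ring, Finset.sum_range_succ,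
            Finset.sum_range_succ _ (2 * n + 1), Finset.sum_range_succ (fun i => -c (2 * i)) (n + 1),
            Finset.sum_range_succ (fun i => -c (2 * i + 1)) n, ← ih]
          have e1 : (-1 : K) ^ (2 * n + 1) = -1 := by rw [pow_succ, pow_mul]; simp
          have e2 : (-1 : K) ^ (2 * n + 1 + 1) = 1 := by rw [pow_succ, e1]; simp
          rw [e1, e2]
          ring_nf
      exact key (fun i => LinearMap.trace K (V i) (φ i ^ m)) n
  · rw [map_mul, map_prod]
    have h6 : constantCoeff (PowerSeries.map (algebraMap ℚ K) Z) = 1 := by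
      rw [← coeff_zero_eq_constantCoeff_apply, PowerSeries.coeff_map, coeff_zero_eq_constantCoeff_apply,
        hZ1, map_one]
    rw [h6, one_mul]
    exact Finset.prod_eq_one fun i _ => (coe_reverse_charpoly (φ (2 * i))).2
  · rw [map_prod]
    exact Finset.prod_eq_one fun i _ => (coe_reverse_charpoly (φ (2 * i + 1))).2

end Alg

end K861.ZetaProd
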