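import Groth.Agent.WeilCoh.K861.Frob
import Groth.Agent.Flat2D.EssRes

/-!
# Degree and stalks of the Frobenius
-/

set_option autoImplicit false

universe u v w

open CategoryTheory AlgebraicGeometry WeilCoh
open Groth.Agent.Sga5.H858.AbsFrob

namespace K861.FrobDeg

theorem frob_stalkMap {X : Scheme.{u}} (p : ℕ) (hp : p.Prime) (h : ∀ U : X.Opens, ((p : ℕ) : Γ(X, U)) = 0)
    (n : ℕ) (x : X) (a : X.presheaf.stalk x) :
    ((frob X p hp h n).stalkMap x).hom a = (a ^ p ^ n : X.presheaf.stalk x) :=
  frobPre_stalkMap X p hp h n x a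

theorem frob_residueFieldMap {X : Scheme.{u}} (p : ℕ) (hp : p.Prime)
    (h : ∀ U : X.Opens, ((p : ℕ) : Γ(X, U)) = 0) (n : ℕ) (x : X) (a : X.residueField x) :
    ((frob X p hp h n).residueFieldMap x).hom a = (a ^ p ^ n : X.residueField x) := by
  obtain ⟨s, rfl⟩ := X.residue_surjective x a
  have h1 := Scheme.residue_residueFieldMap (frob X p hp h n) x
  have h2 := congrArg (fun g => g.hom s) h1
  refine h2.trans ?_
  change (X.residue x).hom (((frob X p hp h n).stalkMap x).hom s) = _
  rw [frob_stalkMap, map_pow]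

/-- the residue degree of the absolute Frobenius of a scheme locally of finite type over an algebraically
closed field -/
theorem residueDegree_frob {k : Type u} [Field k] [IsAlgClosed k] (p : ℕ) (hp : p.Prime) [CharP k p]
    {X : Scheme.{u}} (g : X ⟶ Spec (CommRingCat.of k)) [LocallyOfFiniteType g]
    (h : ∀ U : X.Opens, ((p : ℕ) : Γ(X, U)) = 0) (n : ℕ) (x : X) :
    (frob X p hp h n).residueDegree x = (p ^ n) ^ pdim X x := by
  have hfact : Fact p.Prime := ⟨hp⟩
  let k' := (Spec (CommRingCat.of k)).residueField (g x)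
  let _ : Algebra k' (X.residueField x) := (g.residueFieldMap x).hom.toAlgebra
  have hess : Algebra.EssFiniteType k' (X.residueField x) :=
    Groth.Agent.Flat2D.EssRes.essFiniteType_residueFieldMap g x
  have hcl : IsClosed ({g x} : Set (Spec (CommRingCat.of k))) := by
    have : ({g x} : Set (Spec (CommRingCat.of k))) = Set.univ :=
      Set.eq_univ_of_forall fun y => Subsingleton.elim (α := PrimeSpectrum k) _ _
    rw [this]; exact isClosed_univ
  let e : k' ≅ CommRingCat.of k := residueFieldIsoBase (𝟙 _) (g x) hcl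
  have hac : IsAlgClosed k' := IsAlgClosed.of_ringEquiv k k' e.symm.commRingCatIsoToRingEquiv
  have hchk : CharP k' p := charP_of_injective_ringHom e.symm.commRingCatIsoToRingEquiv.injective p
  have hch : CharP (X.residueField x) p := charP_of_injective_algebraMap
    (algebraMap k' (X.residueField x)).injective p
  have h1 : (frob X p hp h n).residueDegree x =
      K505.FrobDeg.deg (iterateFrobenius (X.residueField x) p n) := by
    unfold K505.FrobDeg.deg
    change @Module.finrank _ _ _ _ ((frob X p hp h n).residueFieldMap x).hom.toAlgebra.toModule = _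
    have h2 : ((frob X p hp h n).residueFieldMap x).hom =
        iterateFrobenius (X.residueField x) p n := by
      refine RingHom.ext fun a => ?_
      exact (frob_residueFieldMap p hp h n x a).trans (iterateFrobenius_def p n (R := X.residueField x) a).symm
    exact congrArg (fun (t : X.residueField x →+* X.residueField x) =>
      @Module.finrank (X.residueField x) (X.residueField x) _ _ t.toAlgebra.toModule) h2
  rw [h1, K505.FrobDeg.deg_iterateFrobenius k' (X.residueField x) p n]
  congr 1
  have h3 := (Dim.rtd_eq_pdim g x).1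
  have h4 : Algebra.trdeg k' (X.residueField x) = (pdim X x : Cardinal.{u}) := h3
  rw [h4]
  exact Cardinal.toNat_natCast _

theorem residueDegree_of_isIso {X Y : Scheme.{u}} (f : X ⟶ Y) [IsIso f] (x : X) :
    f.residueDegree x = 1 := by
  have h := Groth.Agent.CycB.Push.residueDegree_comp f (inv f) x
  rw [IsIso.hom_inv_id, Scheme.Hom.residueDegree_id] at h
  exact Nat.eq_one_of_mul_eq_one_left h.symm

section Setup

variable {k₀ : Type u} [Field k₀] [Finite k₀] {k : Type u} [Field k] [IsAlgClosed k]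
    [Algebra k₀ k] {X : Scheme.{u}} (f : X ⟶ Spec (CommRingCat.of k₀))
    (FX : X ⟶ X) (hFb : FX.base = 𝟙 _) (hle : ∀ U : X.Opens, U ≤ FX ⁻¹ᵁ U)
    (hFapp : ∀ (U : X.Opens) (s : Γ(X, U)), (FX.appLE U U (hle U)).hom s = s ^ Nat.card k₀)
    (Xb : Var k) (π : Xb.obj.left ⟶ X)
    (hπ : IsPullback π Xb.obj.hom f (Spec.map (CommRingCat.ofHom (algebraMap k₀ k))))
    (F : Xb ⟶ Xb) (hF : sm F ≫ π = π ≫ FX)

include hFb hFapp hπ hF

theorem generic_F : sm F (genericPoint ↥Xb.obj.left) = genericPoint ↥Xb.obj.left ∧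
    (sm F).residueDegree (genericPoint ↥Xb.obj.left) = Nat.card k₀ ^ WeilCoh.dim Xb.obj.left := by
  obtain ⟨p, e, hp, hch, he, hcard, hpY, h, hiso, hfac⟩ :=
    Frob.exists_factor f FX hFb hle hFapp Xb.obj.hom π hπ (sm F) hF (Dim.w F)
  have h1 : h (genericPoint ↥Xb.obj.left) = genericPoint ↥Xb.obj.left :=
    genericPoint_eq_of_isOpenImmersion h
  constructor
  · rw [hfac]
    exact h1
  · rw [hfac, Groth.Agent.CycB.Push.residueDegree_comp, residueDegree_of_isIso h, mul_one, h1,
      residueDegree_frob p hp Xb.obj.hom hpY e, Dim.pdim_genericPoint, hcard]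

theorem tr_pull_F {K : Type v} [Field K] [CharZero K] (T : Theory k K) (c : T.H Xb) :
    T.tr Xb (T.pull F c) = ((Nat.card k₀ : K) ^ WeilCoh.dim Xb.obj.left) * T.tr Xb c := by
  have h := generic_F f FX hFb hle hFapp Xb π hπ F hF
  have h1 := Dim.cl_push_all T F (genericPoint ↥Xb.obj.left) c
  rw [h.1, h.2, Point.cl_genericPoint, one_mul, one_mul] at h1
  rw [h1]
  push_cast
  rfl

theorem pairing_F {K : Type v} [Field K] [CharZero K] (T : Theory k K) (i j : ℤ)
    (a : T.gr Xb i) (b : T.gr Xb j) :
    pairing K (T.gr Xb i) (T.gr Xb j) (T.tr Xb) (T.pullDeg F i a) (T.pullDeg F j b) =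
      ((Nat.card k₀ : K) ^ WeilCoh.dim Xb.obj.left) *
        pairing K (T.gr Xb i) (T.gr Xb j) (T.tr Xb) a b := by
  rw [Basic.pairing_apply, Basic.pairing_apply, ← tr_pull_F f FX hFb hle hFapp Xb π hπ F hF T, map_mul (T.pull F)]
  rfl

end Setup

end K861.FrobDeg
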