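import Mathlib.LinearAlgebra.PerfectPairing.Basic
import Mathlib.LinearAlgebra.Charpoly.Basic
import Mathlib.LinearAlgebra.Charpoly.ToMatrix
import Mathlib.LinearAlgebra.Matrix.Charpoly.Coeff
import Mathlib.LinearAlgebra.Dual.Lemmas
import Mathlib.LinearAlgebra.Determinant

/-!
# Endomorphisms of spaces in duality which are adjoint up to a scalar
-/

set_option autoImplicit false
set_option linter.unusedSectionVars false

universe u v w

open Matrix Polynomial

namespace K861.LinAlg

variable {K : Type u} [Field K] {V : Type v} {W : Type w} [AddCommGroup V] [Module K V]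
  [AddCommGroup W] [Module K W] [Module.Finite K V] [Module.Finite K W]

/-- dual bases -/
theorem exists_dualBases (B : V →ₗ[K] W →ₗ[K] K) [B.IsPerfPair] :
    ∃ (e : Module.Basis (Fin (Module.finrank K V)) K V)
      (f : Module.Basis (Fin (Module.finrank K V)) K W),
      ∀ i j, B (e i) (f j) = if i = j then 1 else 0 := by
  let e := Module.finBasis K V
  let g : W ≃ₗ[K] Module.Dual K V := B.flip.toPerfPair
  refine ⟨e, e.dualBasis.map g.symm, fun i j => ?_⟩
  have h1 : B (e i) ((e.dualBasis.map g.symm) j) = g ((e.dualBasis.map g.symm) j) (e i) := rfl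
  rw [h1, Module.Basis.map_apply, LinearEquiv.apply_symm_apply, Module.Basis.dualBasis_apply_self]

theorem matrix_mul (B : V →ₗ[K] W →ₗ[K] K) (A : V →ₗ[K] V) (A' : W →ₗ[K] W) (c : K)
    (h : ∀ v w, B (A v) (A' w) = c * B v w) {ι : Type*} [Fintype ι] [DecidableEq ι]
    (e : Module.Basis ι K V) (f : Module.Basis ι K W)
    (hef : ∀ i j, B (e i) (f j) = if i = j then 1 else 0) :
    (LinearMap.toMatrix e e A)ᵀ * LinearMap.toMatrix f f A' = c • (1 : Matrix ι ι K) := by
  ext i j
  have h1 := h (e i) (f j)
  have h2 : A (e i) = ∑ l, LinearMap.toMatrix e e A l i • e l := by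
    conv_lhs => rw [← e.sum_repr (A (e i))]
    exact Finset.sum_congr rfl fun l _ => by rw [LinearMap.toMatrix_apply]
  have h3 : A' (f j) = ∑ l, LinearMap.toMatrix f f A' l j • f l := by
    conv_lhs => rw [← f.sum_repr (A' (f j))]
    exact Finset.sum_congr rfl fun l _ => by rw [LinearMap.toMatrix_apply]
  rw [h2, h3, hef] at h1
  simp only [map_sum, map_smul, LinearMap.sum_apply, LinearMap.smul_apply, smul_eq_mul, hef] at h1
  simp only [Matrix.mul_apply, Matrix.transpose_apply, Matrix.smul_apply, Matrix.one_apply, smul_eq_mul]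
  rw [← h1]
  simp [mul_comm]

theorem det_mul_det (B : V →ₗ[K] W →ₗ[K] K) [B.IsPerfPair] (A : V →ₗ[K] V) (A' : W →ₗ[K] W) (c : K)
    (h : ∀ v w, B (A v) (A' w) = c * B v w) :
    LinearMap.det A * LinearMap.det A' = c ^ Module.finrank K V := by
  obtain ⟨e, f, hef⟩ := exists_dualBases B
  have h1 := congrArg Matrix.det (matrix_mul B A A' c h e f hef)
  rw [Matrix.det_mul, Matrix.det_transpose, Matrix.det_smul, Matrix.det_one, mul_one,
    LinearMap.det_toMatrix, LinearMap.det_toMatrix, Fintype.card_fin] at h1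
  exact h1

theorem finrank_eq (B : V →ₗ[K] W →ₗ[K] K) [B.IsPerfPair] :
    Module.finrank K V = Module.finrank K W := by
  obtain ⟨e, f, hef⟩ := exists_dualBases B
  rw [Module.finrank_eq_card_basis f, Fintype.card_fin]

theorem charpoly_comp {ι : Type*} [Fintype ι] [DecidableEq ι] (M : Matrix ι ι K) (c : K) :
    M.charpoly.comp (C c * X) = ((C c * X : K[X]) • (1 : Matrix ι ι K[X]) - M.map C).det := by
  have h1 : M.charpoly.comp (C c * X) = (compRingHom (C c * X)) M.charpoly := rfl
  rw [h1, Matrix.charpoly, RingHom.map_det]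
  congr 1
  ext i j
  simp only [RingHom.mapMatrix_apply, Matrix.map_apply, Matrix.charmatrix_apply, Matrix.sub_apply,
    Matrix.smul_apply, smul_eq_mul, map_sub, coe_compRingHom_apply]
  by_cases hij : i = j
  · subst hij; simp
  · simp [hij]

theorem det_smul_reverse_charpoly (B : V →ₗ[K] W →ₗ[K] K) [B.IsPerfPair] (A : V →ₗ[K] V)
    (A' : W →ₗ[K] W) (c : K) (h : ∀ v w, B (A v) (A' w) = c * B v w) :
    LinearMap.det A • (LinearMap.charpoly A').reverse =
      (-1 : K[X]) ^ Module.finrank K V * (LinearMap.charpoly A).comp (C c * X) := by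
  obtain ⟨e, f, hef⟩ := exists_dualBases B
  have h1 := matrix_mul B A A' c h e f hef
  set M := LinearMap.toMatrix e e A with hM
  set N := LinearMap.toMatrix f f A' with hN
  rw [← LinearMap.charpoly_toMatrix A e, ← LinearMap.charpoly_toMatrix A' f, ← hM, ← hN,
    Matrix.reverse_charpoly, charpoly_comp, ← LinearMap.det_toMatrix e A, ← hM]
  have h2 : (M.map C)ᵀ * (1 - (X : K[X]) • N.map C) = -((C c * X : K[X]) • (1 : Matrix _ _ K[X]) - M.map C)ᵀ := by
    have h3 : (M.map C)ᵀ * N.map C = (C c : K[X]) • (1 : Matrix _ _ K[X]) := by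
      have h4 := congrArg (fun Z : Matrix _ _ K => Z.map (C : K → K[X])) h1
      simp only [Matrix.map_mul, Matrix.transpose_map] at h4
      rw [h4]
      ext i j
      simp only [Matrix.map_apply, Matrix.smul_apply, smul_eq_mul, map_mul, Matrix.one_apply]
      by_cases hij : i = j
      · subst hij; simp
      · simp [hij]
    rw [mul_sub, mul_one, mul_smul_comm, h3, Matrix.transpose_sub, Matrix.transpose_smul,
      Matrix.transpose_one, smul_smul, mul_comm X (C c)]
    abel
  have h5 := congrArg Matrix.det h2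
  rw [Matrix.det_mul, Matrix.det_transpose, Matrix.det_neg, Matrix.det_transpose, Fintype.card_fin] at h5
  rw [← h5, Matrix.charpolyRev, smul_eq_C_mul]
  congr 1
  have h6 : (M.map C).det = C M.det := (RingHom.map_det C M).symm
  rw [h6]

end K861.LinAlg
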