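import Mathlib.FieldTheory.RatFunc.AsPolynomial
import Mathlib.Algebra.Polynomial.Reverse
import Mathlib.Algebra.BigOperators.Intervals
import Mathlib.Algebra.Polynomial.AlgebraMap
import Groth.Agent.WeilCoh.K861.LinAlg

/-!
# The functional equation: algebra in `K(t)`
-/

set_option autoImplicit false

universe u v w

open Polynomial

namespace K861.FunEq

theorem sum_even_odd (b : ℕ → ℤ) (n : ℕ) :
    ∑ i ∈ Finset.range (2 * n + 1), (-1 : ℤ) ^ i * b i =
      ∑ i ∈ Finset.range (n + 1), b (2 * i) - ∑ i ∈ Finset.range n, b (2 * i + 1) := by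
  induction n with
  | zero => simp
  | succ n ih =>
    have h1 : 2 * (n + 1) + 1 = 2 * n + 1 + 1 + 1 := by ring
    rw [h1, Finset.sum_range_succ, Finset.sum_range_succ, ih, Finset.sum_range_succ _ (n + 1),
      Finset.sum_range_succ _ n]
    have h2 : (-1 : ℤ) ^ (2 * n + 1) = -1 := by
      rw [pow_succ, pow_mul]; simp
    have h3 : (-1 : ℤ) ^ (2 * n + 1 + 1) = 1 := by
      rw [pow_succ, h2]; simp
    rw [h2, h3]
    have h4 : 2 * (n + 1) = 2 * n + 1 + 1 := by ring
    rw [h4, Finset.sum_range_succ _ n]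
    ring

/-- parity of the alternating sum of a symmetric sequence -/
theorem even_sum_sub (b : ℕ → ℤ) (n : ℕ) (hb : ∀ i ≤ 2 * n, b (2 * n - i) = b i) :
    Even (∑ i ∈ Finset.range (2 * n + 1), b i - b n) := by
  have h1 : 2 * n + 1 = (n + 1) + n := by ring
  rw [h1, Finset.sum_range_add, Finset.sum_range_succ]
  have h2 : ∑ i ∈ Finset.range n, b (n + 1 + i) = ∑ i ∈ Finset.range n, b i := by
    rw [← Finset.sum_range_reflect]
    refine Finset.sum_congr rfl fun j hj => ?_
    rw [Finset.mem_range] at hj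
    rw [← hb j (by omega)]
    congr 1
    omega
  rw [h2]
  exact ⟨∑ i ∈ Finset.range n, b i, by ring⟩

theorem reverse_eval {K : Type v} [Field K] (χ : K[X]) (y : RatFunc K) (hy : y ≠ 0) :
    aeval y⁻¹ χ.reverse * y ^ χ.natDegree = aeval y χ := by
  have : Invertible y := invertibleOfNonzero hy
  have h := Polynomial.eval₂_reverse_mul_pow (algebraMap K (RatFunc K)) y χ
  rw [invOf_eq_inv] at h
  exact h

theorem aeval_comp_C_mul_X {K : Type v} [Field K] (χ : K[X]) (c : K) :
    aeval (RatFunc.C c * RatFunc.X) χ = algebraMap K[X] (RatFunc K) (χ.comp (C c * X)) := by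
  have h : (RatFunc.C c * RatFunc.X : RatFunc K) = algebraMap K[X] (RatFunc K) (C c * X) := by
    rw [map_mul, RatFunc.algebraMap_X, RatFunc.algebraMap_C]
  rw [h, Polynomial.aeval_algebraMap_apply, Polynomial.comp_eq_aeval]

theorem prod_odd_reflect {M : Type*} [CommMonoid M] (f : ℕ → M) (n : ℕ) :
    ∏ i ∈ Finset.range n, f (2 * n - (2 * i + 1)) = ∏ i ∈ Finset.range n, f (2 * i + 1) := by
  rw [← Finset.prod_range_reflect]
  refine Finset.prod_congr rfl fun j hj => ?_
  rw [Finset.mem_range] at hj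
  congr 1
  omega

theorem prod_even_reflect {M : Type*} [CommMonoid M] (f : ℕ → M) (n : ℕ) :
    ∏ i ∈ Finset.range (n + 1), f (2 * n - 2 * i) = ∏ i ∈ Finset.range (n + 1), f (2 * i) := by
  rw [← Finset.prod_range_reflect]
  refine Finset.prod_congr rfl fun j hj => ?_
  rw [Finset.mem_range] at hj
  congr 1
  omega

section Main

variable {K : Type v} [Field K] [CharZero K] (q : K) (hq : q ≠ 0) (n : ℕ) (χ : ℕ → K[X]) (B : ℕ → ℕ)
  (d : ℕ → K) (hdeg : ∀ i, (χ i).natDegree = B i)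
  (hR : ∀ i ≤ 2 * n, d i • (χ (2 * n - i)).reverse = (-1 : K[X]) ^ B i * (χ i).comp (C (q ^ n) * X))
  (hd : ∀ i ≤ 2 * n, d i * d (2 * n - i) = (q ^ n) ^ B i)
  (hB : ∀ i ≤ 2 * n, B (2 * n - i) = B i) (hodd : Odd n → Even (B n))

include hq hdeg hR in
theorem step (i : ℕ) (hi : i ≤ 2 * n) :
    aeval ((RatFunc.X : RatFunc K)⁻¹ * RatFunc.C (q ^ n)⁻¹) (χ i).reverse =
      (RatFunc.C ((-1) ^ B i * d i) * ((RatFunc.C (q ^ n) * RatFunc.X) ^ B i)⁻¹) *
        algebraMap K[X] (RatFunc K) (χ (2 * n - i)).reverse := by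
  have hy : (RatFunc.C (q ^ n) * RatFunc.X : RatFunc K) ≠ 0 := by
    refine mul_ne_zero ?_ RatFunc.X_ne_zero
    rw [Ne, map_eq_zero]
    exact pow_ne_zero n hq
  have h1 : ((RatFunc.X : RatFunc K)⁻¹ * RatFunc.C (q ^ n)⁻¹) = (RatFunc.C (q ^ n) * RatFunc.X)⁻¹ := by
    rw [mul_inv, map_inv₀, mul_comm]
  have h2 := reverse_eval (χ i) _ hy
  rw [aeval_comp_C_mul_X, hdeg] at h2
  have h3 := congrArg (fun p => (-1 : K[X]) ^ B i * p) (hR i hi)
  have hm1 : (-1 : K[X]) ^ B i * (-1 : K[X]) ^ B i = 1 := by rw [← mul_pow]; simp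
  simp only [← mul_assoc, hm1, one_mul] at h3
  rw [← h3] at h2
  have h4 : algebraMap K[X] (RatFunc K) ((-1) ^ B i * d i • (χ (2 * n - i)).reverse) =
      RatFunc.C ((-1) ^ B i * d i) * algebraMap K[X] (RatFunc K) (χ (2 * n - i)).reverse := by
    have h5 : (-1 : K[X]) ^ B i * d i • (χ (2 * n - i)).reverse =
        C ((-1) ^ B i * d i) * (χ (2 * n - i)).reverse := by
      rw [smul_eq_C_mul, ← mul_assoc]
      congr 1
      simp
    rw [h5, map_mul, RatFunc.algebraMap_C]
  rw [h4] at h2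
  rw [h1, eq_div_of_mul_eq (pow_ne_zero _ hy) h2, div_eq_mul_inv]
  ring

include hq hdeg hR in
theorem prod_step (s : Finset ℕ) (g : ℕ → ℕ) (hs : ∀ i ∈ s, g i ≤ 2 * n) :
    aeval ((RatFunc.X : RatFunc K)⁻¹ * RatFunc.C (q ^ n)⁻¹) (∏ i ∈ s, (χ (g i)).reverse) =
      (RatFunc.C ((-1) ^ (∑ i ∈ s, B (g i)) * ∏ i ∈ s, d (g i)) *
        ((RatFunc.C (q ^ n) * RatFunc.X) ^ (∑ i ∈ s, B (g i)))⁻¹) *
        ∏ i ∈ s, algebraMap K[X] (RatFunc K) (χ (2 * n - g i)).reverse := by
  rw [map_prod, Finset.prod_congr rfl (fun i hi => step q hq n χ B d hdeg hR (g i) (hs i hi)),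
    Finset.prod_mul_distrib, Finset.prod_mul_distrib, ← map_prod, Finset.prod_mul_distrib,
    Finset.prod_pow_eq_pow_sum, Finset.prod_inv_distrib, Finset.prod_pow_eq_pow_sum]

include hq hdeg hR hd hB hodd in
theorem fun_eq :
    ∃ ε : K, (ε = 1 ∨ ε = -1) ∧
      aeval ((RatFunc.X : RatFunc K)⁻¹ * RatFunc.C (q ^ n)⁻¹)
          (∏ i ∈ Finset.range n, (χ (2 * i + 1)).reverse) /
        aeval ((RatFunc.X : RatFunc K)⁻¹ * RatFunc.C (q ^ n)⁻¹)
          (∏ i ∈ Finset.range (n + 1), (χ (2 * i)).reverse) =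
      RatFunc.C ε * RatFunc.C q ^ ((n : ℤ) * (∑ i ∈ Finset.range (2 * n + 1), (-1 : ℤ) ^ i * (B i : ℤ)) / 2) *
        (RatFunc.X : RatFunc K) ^ (∑ i ∈ Finset.range (2 * n + 1), (-1 : ℤ) ^ i * (B i : ℤ)) *
        (algebraMap K[X] (RatFunc K) (∏ i ∈ Finset.range n, (χ (2 * i + 1)).reverse) /
         algebraMap K[X] (RatFunc K) (∏ i ∈ Finset.range (n + 1), (χ (2 * i)).reverse)) := by
  set E : ℤ := ∑ i ∈ Finset.range (2 * n + 1), (-1 : ℤ) ^ i * (B i : ℤ) with hE
  have hE2 : E = ∑ i ∈ Finset.range (n + 1), (B (2 * i) : ℤ) - ∑ i ∈ Finset.range n, (B (2 * i + 1) : ℤ) :=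
    sum_even_odd (fun i => (B i : ℤ)) n
  have hqn : q ^ n ≠ 0 := pow_ne_zero n hq
  have hd0 : ∀ i ≤ 2 * n, d i ≠ 0 := fun i hi h0 => by
    have := hd i hi
    rw [h0, zero_mul] at this
    exact pow_ne_zero _ hqn this.symm
  -- parity
  have hpar : Even ((n : ℤ) * E) := by
    rcases Nat.even_or_odd n with hn | hn
    · exact (by exact_mod_cast hn : Even (n : ℤ)).mul_right _
    · refine Even.mul_left ?_ _
      have h1 := even_sum_sub (fun i => (-1 : ℤ) ^ i * (B i : ℤ)) n (fun i hi => by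
        have h2 : (-1 : ℤ) ^ (2 * n - i) = (-1) ^ i := by
          have h3 : (-1 : ℤ) ^ (2 * n - i) * (-1) ^ i = 1 := by
            rw [← pow_add, Nat.sub_add_cancel hi, pow_mul]; simp
          have h4 : (-1 : ℤ) ^ i * (-1) ^ i = 1 := by rw [← mul_pow]; simp
          calc (-1 : ℤ) ^ (2 * n - i) = (-1 : ℤ) ^ (2 * n - i) * ((-1) ^ i * (-1) ^ i) := by rw [h4, mul_one]
            _ = (-1) ^ i := by rw [← mul_assoc, h3, one_mul]
        simp only [h2, hB i hi])
      have h2 : Even ((-1 : ℤ) ^ n * (B n : ℤ)) := by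
        refine Even.mul_left ?_ _
        exact_mod_cast hodd hn
      have h3 := h1.add h2
      simp only [sub_add_cancel] at h3
      exact h3
  obtain ⟨m, hm⟩ := hpar
  have hm' : (n : ℤ) * E / 2 = m := by omega
  -- the constant
  set D : K := (∏ i ∈ Finset.range n, d (2 * i + 1)) / ∏ i ∈ Finset.range (n + 1), d (2 * i) with hD
  have hprod0 : (∏ i ∈ Finset.range (n + 1), d (2 * i)) ≠ 0 := by
    rw [Finset.prod_ne_zero_iff]
    intro i hi
    rw [Finset.mem_range] at hi
    exact hd0 _ (by omega)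
  have hD2 : D * D = q ^ (-((n : ℤ) * E)) := by
    have h1 : (∏ i ∈ Finset.range n, d (2 * i + 1)) * (∏ i ∈ Finset.range n, d (2 * i + 1)) =
        (q ^ n) ^ (∑ i ∈ Finset.range n, B (2 * i + 1)) := by
      nth_rewrite 2 [← prod_odd_reflect d n]
      rw [← Finset.prod_mul_distrib, ← Finset.prod_pow_eq_pow_sum]
      refine Finset.prod_congr rfl fun i hi => ?_
      rw [Finset.mem_range] at hi
      exact hd _ (by omega)
    have h2 : (∏ i ∈ Finset.range (n + 1), d (2 * i)) * (∏ i ∈ Finset.range (n + 1), d (2 * i)) =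
        (q ^ n) ^ (∑ i ∈ Finset.range (n + 1), B (2 * i)) := by
      nth_rewrite 2 [← prod_even_reflect d n]
      rw [← Finset.prod_mul_distrib, ← Finset.prod_pow_eq_pow_sum]
      refine Finset.prod_congr rfl fun i hi => ?_
      rw [Finset.mem_range] at hi
      exact hd _ (by omega)
    rw [hD, div_mul_div_comm, h1, h2, div_eq_iff (pow_ne_zero _ hqn), ← pow_mul, ← pow_mul,
      ← zpow_natCast q, ← zpow_natCast q, ← zpow_add₀ hq, hE2]
    congr 1
    push_cast
    ring
  set ε' : K := D * q ^ m with hε'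
  have hεsq : ε' * ε' = 1 := by
    rw [hε', mul_mul_mul_comm, hD2, ← zpow_add₀ hq, ← zpow_add₀ hq, hm]
    simp
  have hDε : D * q ^ ((n : ℤ) * E) = ε' * q ^ m := by
    rw [hε', hm, zpow_add₀ hq, mul_assoc]
  have hε1 : ε' = 1 ∨ ε' = -1 := mul_self_eq_one_iff.1 hεsq
  refine ⟨(-1) ^ E * ε', ?_, ?_⟩
  · rcases Int.even_or_odd E with h | h
    · rw [h.neg_one_zpow, one_mul]; exact hε1
    · rw [h.neg_one_zpow]
      rcases hε1 with h' | h'
      · right; rw [h', mul_one]
      · left; rw [h']; ring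
  · have hy : (RatFunc.C (q ^ n) * RatFunc.X : RatFunc K) ≠ 0 := by
      refine mul_ne_zero ?_ RatFunc.X_ne_zero
      rw [Ne, map_eq_zero]
      exact pow_ne_zero n hq
    have hodd' := prod_step q hq n χ B d hdeg hR (Finset.range n) (fun i => 2 * i + 1)
      (fun i hi => by rw [Finset.mem_range] at hi; omega)
    have heven' := prod_step q hq n χ B d hdeg hR (Finset.range (n + 1)) (fun i => 2 * i)
      (fun i hi => by rw [Finset.mem_range] at hi; omega)
    rw [prod_odd_reflect (fun j => algebraMap K[X] (RatFunc K) (χ j).reverse) n] at hodd'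
    rw [prod_even_reflect (fun j => algebraMap K[X] (RatFunc K) (χ j).reverse) n] at heven'
    rw [hodd', heven', mul_div_mul_comm, hm', map_prod (algebraMap K[X] (RatFunc K)),
      map_prod (algebraMap K[X] (RatFunc K))]
    congr 1
    set o := ∑ i ∈ Finset.range n, B (2 * i + 1) with ho
    set e := ∑ i ∈ Finset.range (n + 1), B (2 * i) with he
    have hEoe : E = (e : ℤ) - o := by
      rw [hE2, ho, he]; push_cast; rfl
    have hsign : (-1 : K) ^ o / (-1) ^ e = (-1) ^ E := by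
      rw [hEoe, zpow_sub₀ (by simp), zpow_natCast, zpow_natCast,
        div_eq_div_iff (pow_ne_zero _ (by simp)) (pow_ne_zero _ (by simp)), ← pow_add, ← pow_add,
        (Even.add_self o).neg_one_pow, (Even.add_self e).neg_one_pow]
    set y : RatFunc K := RatFunc.C (q ^ n) * RatFunc.X with hydef
    have h1 : RatFunc.C ((-1) ^ o * ∏ i ∈ Finset.range n, d (2 * i + 1)) * (y ^ o)⁻¹ /
        (RatFunc.C ((-1) ^ e * ∏ i ∈ Finset.range (n + 1), d (2 * i)) * (y ^ e)⁻¹) =
        RatFunc.C ((-1) ^ E * D) * y ^ E := by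
      rw [← hsign, hD, hEoe, zpow_sub₀ hy, zpow_natCast, zpow_natCast, div_mul_div_comm, map_div₀]
      field_simp
    rw [h1, hydef, mul_zpow, ← mul_assoc, ← map_zpow₀, ← map_zpow₀, ← map_mul, ← map_mul]
    congr 2
    rw [← zpow_natCast q n, ← zpow_mul, mul_assoc, hDε, hε']
    ring

end Main

open Matrix in
/-- a nondegenerate skew-symmetric form lives in even dimension -/
theorem even_finrank {K : Type u} [Field K] [CharZero K] {V : Type v} [AddCommGroup V] [Module K V]
    [Module.Finite K V] (b : V →ₗ[K] V →ₗ[K] K) [b.IsPerfPair] (h : ∀ v w, b v w = - b w v) :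
    Even (Module.finrank K V) := by
  obtain ⟨e, f, hef⟩ := LinAlg.exists_dualBases b
  let M : Matrix _ _ K := Matrix.of fun i j => b (e i) (e j)
  have hM : Mᵀ = -M := by
    ext i j
    simp only [M, Matrix.transpose_apply, Matrix.of_apply, Matrix.neg_apply]
    exact h _ _
  have h1 : M * Matrix.of (fun i j => e.repr (f j) i) = 1 := by
    ext i j
    have h2 := hef i j
    rw [← e.sum_repr (f j), map_sum] at h2
    simp only [map_smul, smul_eq_mul] at h2
    simp only [Matrix.mul_apply, M, Matrix.of_apply, Matrix.one_apply]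
    rw [← h2]
    exact Finset.sum_congr rfl fun _ _ => mul_comm _ _
  have hdet : M.det ≠ 0 := by
    intro h0
    have h2 := congrArg Matrix.det h1
    rw [Matrix.det_mul, h0, zero_mul, Matrix.det_one] at h2
    exact zero_ne_one h2
  by_contra hodd
  rw [Nat.not_even_iff_odd] at hodd
  have h3 := congrArg Matrix.det hM
  rw [Matrix.det_transpose, Matrix.det_neg, Fintype.card_fin, hodd.neg_one_pow] at h3
  have h4 : (2 : K) * M.det = 0 := by linear_combination h3
  rcases mul_eq_zero.1 h4 with h5 | h5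
  · exact two_ne_zero h5
  · exact hdet h5

end K861.FunEq
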