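import Groth.Agent.WeilCoh.K861.Basic
import Mathlib.LinearAlgebra.Trace

/-!
# Signs, components, the total push-forward, graded Künneth induction
-/

set_option autoImplicit false

universe u v w

open CategoryTheory AlgebraicGeometry TensorProduct WeilCoh

namespace K861.Total

section Sign

variable (K : Type v) [Field K]

/-- the sign of an integer -/
def eps (i : ℤ) : K := (-1 : K) ^ i.natAbs

theorem eps_of_even {i : ℤ} (h : Even i) : eps K i = 1 := by
  unfold eps
  exact (Int.natAbs_even.2 h).neg_one_pow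

theorem eps_of_odd {i : ℤ} (h : Odd i) : eps K i = -1 := by
  unfold eps
  exact (Int.natAbs_odd.2 h).neg_one_pow

theorem eps_mul_self (i : ℤ) : eps K i * eps K i = 1 := by
  rcases Int.even_or_odd i with h | h
  · rw [eps_of_even K h, one_mul]
  · rw [eps_of_odd K h]; ring

theorem eps_congr {i j : ℤ} (h : Even (i + j)) : eps K i = eps K j := by
  rcases Int.even_or_odd i with hi | hi
  · have hj : Even j := (Int.even_add.1 h).1 hi
    rw [eps_of_even K hi, eps_of_even K hj]
  · have hj : Odd j := by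
      rw [← Int.not_even_iff_odd] at hi ⊢
      exact fun hj => hi ((Int.even_add.1 h).2 hj)
    rw [eps_of_odd K hi, eps_of_odd K hj]

theorem eps_natCast (n : ℕ) : eps K (n : ℤ) = (-1) ^ n := by
  unfold eps
  rw [Int.natAbs_natCast]

theorem neg_one_pow_natAbs_mul {i j : ℤ} (h : Even (i + j)) :
    (-1 : K) ^ (i.natAbs * j.natAbs) = eps K i := by
  rcases Int.even_or_odd i with hi | hi
  · rw [eps_of_even K hi]
    exact ((Int.natAbs_even.2 hi).mul_right _).neg_one_pow
  · have hj : Odd j := by
      rw [← Int.not_even_iff_odd] at hi ⊢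
      exact fun hj => hi ((Int.even_add.1 h).2 hj)
    rw [eps_of_odd K hi]
    exact ((Int.natAbs_odd.2 hi).mul (Int.natAbs_odd.2 hj)).neg_one_pow

end Sign

variable {k : Type u} [Field k] {P : ObjectProperty (Over (Spec (CommRingCat.of k)))}
variable {K : Type v} [Field K] (T : TheoryOn.{u, v, w} k P K)

theorem comm_of_even_add {X : P.FullSubcategory} {i j : ℤ} (h : Even (i + j)) {a b : T.H X}
    (ha : a ∈ T.gr X i) (hb : b ∈ T.gr X j) : a * b = eps K i • (b * a) := by
  rw [T.gradedComm X i j a b ha hb, neg_one_pow_natAbs_mul K h]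

/-- the trace is graded symmetric -/
theorem tr_mul_comm {X : P.FullSubcategory} {i j : ℤ} {a b : T.H X}
    (ha : a ∈ T.gr X i) (hb : b ∈ T.gr X j) : T.tr X (a * b) = eps K i * T.tr X (b * a) := by
  by_cases h : i + j = 2 * (WeilCoh.dim X.obj.left : ℤ)
  · rw [comm_of_even_add T (by rw [h]; exact even_two_mul _) ha hb, map_smul, smul_eq_mul]
  · rw [Basic.tr_of_ne T (Basic.mul_mem T ha hb) h,
      Basic.tr_of_ne T (Basic.mul_mem T hb ha) (by omega), mul_zero]

/-! ### components -/

/-- the projection onto a graded piece -/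
noncomputable def proj (X : P.FullSubcategory) (i : ℤ) : T.H X →ₗ[K] T.gr X i :=
  DirectSum.component K ℤ (fun i => T.gr X i) i ∘ₗ
    (LinearEquiv.ofBijective (DirectSum.coeLinearMap (T.gr X)) (T.decomp X)).symm.toLinearMap

theorem proj_coe_self {X : P.FullSubcategory} {i : ℤ} (a : T.gr X i) :
    proj T X i (a : T.H X) = a := by
  have h : (LinearEquiv.ofBijective (DirectSum.coeLinearMap (T.gr X)) (T.decomp X)).symm (a : T.H X) =
      DirectSum.lof K ℤ (fun i => T.gr X i) i a := by
    rw [LinearEquiv.symm_apply_eq]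
    exact (DirectSum.coeLinearMap_lof (T.gr X) i a).symm
  unfold proj
  rw [LinearMap.comp_apply, LinearEquiv.coe_coe, h]
  exact DirectSum.lof_apply (M := fun i => T.gr X i) K i a

theorem proj_coe_ne {X : P.FullSubcategory} {i j : ℤ} (h : i ≠ j) (a : T.gr X i) :
    proj T X j (a : T.H X) = 0 := by
  have h' : (LinearEquiv.ofBijective (DirectSum.coeLinearMap (T.gr X)) (T.decomp X)).symm (a : T.H X) =
      DirectSum.lof K ℤ (fun i => T.gr X i) i a := by
    rw [LinearEquiv.symm_apply_eq]
    exact (DirectSum.coeLinearMap_lof (T.gr X) i a).symm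
  unfold proj
  rw [LinearMap.comp_apply, LinearEquiv.coe_coe, h', DirectSum.component.of, dif_neg h]

theorem proj_of_mem {X : P.FullSubcategory} {i : ℤ} {a : T.H X} (ha : a ∈ T.gr X i) :
    (proj T X i a : T.H X) = a := congrArg Subtype.val (proj_coe_self T ⟨a, ha⟩)

theorem proj_of_mem_ne {X : P.FullSubcategory} {i j : ℤ} (h : i ≠ j) {a : T.H X}
    (ha : a ∈ T.gr X i) : proj T X j a = 0 := proj_coe_ne T h ⟨a, ha⟩

/-! ### graded Künneth induction -/

/-- every homogeneous class on a product is a sum of products of homogeneous classes of complementary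
degrees -/
theorem kunneth_induction_gr {X Y Q : P.FullSubcategory} {p : Q ⟶ X} {q : Q ⟶ Y}
    (hQ : IsProd p q) (m : ℤ) {r : T.H Q → Prop}
    (hom : ∀ (i j : ℤ) (a : T.H X) (b : T.H Y), i + j = m → a ∈ T.gr X i → b ∈ T.gr Y j →
      r (T.pull p a * T.pull q b)) (zero : r 0)
    (add : ∀ a b, a ∈ T.gr Q m → b ∈ T.gr Q m → r a → r b → r (a + b))
    (c : T.H Q) (hc : c ∈ T.gr Q m) : r c := by
  rw [← proj_of_mem T hc]
  clear hc
  induction c using Basic.kunneth_induction T hQ with
  | hom i j a b ha hb =>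
    have hm := Basic.mul_mem T (T.pull_mem p i a ha) (T.pull_mem q j b hb)
    by_cases h : i + j = m
    · subst h
      rw [proj_of_mem T hm]
      exact hom i j a b rfl ha hb
    · rw [proj_of_mem_ne T h hm]
      exact zero
  | zero => rw [map_zero]; exact zero
  | add c d hc hd =>
    rw [map_add, Submodule.coe_add]
    exact add _ _ (SetLike.coe_mem _) (SetLike.coe_mem _) hc hd

/-! ### the total push-forward -/

/-- push-forward on the total cohomology -/
noncomputable def pushT {X Y : P.FullSubcategory} (f : X ⟶ Y) : T.H X →ₗ[K] T.H Y :=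
  (DirectSum.toModule K ℤ (T.H Y) fun i =>
      (T.gr Y (i + 2 * (WeilCoh.dim Y.obj.left : ℤ) - 2 * (WeilCoh.dim X.obj.left : ℤ))).subtype ∘ₗ
        T.push f i) ∘ₗ
    (LinearEquiv.ofBijective (DirectSum.coeLinearMap (T.gr X)) (T.decomp X)).symm.toLinearMap

theorem pushT_coe {X Y : P.FullSubcategory} (f : X ⟶ Y) {i : ℤ} (a : T.gr X i) :
    pushT T f (a : T.H X) = (T.push f i a : T.H Y) := by
  have h : (LinearEquiv.ofBijective (DirectSum.coeLinearMap (T.gr X)) (T.decomp X)).symm (a : T.H X) =
      DirectSum.lof K ℤ (fun i => T.gr X i) i a := by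
    rw [LinearEquiv.symm_apply_eq]
    exact (DirectSum.coeLinearMap_lof (T.gr X) i a).symm
  unfold pushT
  rw [LinearMap.comp_apply, LinearEquiv.coe_coe, h, DirectSum.toModule_lof]
  rfl

theorem pushT_of_mem {X Y : P.FullSubcategory} (f : X ⟶ Y) {i : ℤ} {a : T.H X} (ha : a ∈ T.gr X i) :
    pushT T f a = (T.push f i ⟨a, ha⟩ : T.H Y) := pushT_coe T f ⟨a, ha⟩

theorem pushT_mem {X Y : P.FullSubcategory} (f : X ⟶ Y) {i : ℤ} {a : T.H X} (ha : a ∈ T.gr X i) :
    pushT T f a ∈
      T.gr Y (i + 2 * (WeilCoh.dim Y.obj.left : ℤ) - 2 * (WeilCoh.dim X.obj.left : ℤ)) := by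
  rw [pushT_of_mem T f ha]
  exact SetLike.coe_mem _

theorem tr_pushT_mul {X Y : P.FullSubcategory} (f : X ⟶ Y) (a : T.H X) (b : T.H Y) :
    T.tr Y (pushT T f a * b) = T.tr X (a * T.pull f b) := by
  induction a using Basic.hom_induction T with
  | hom i a ha => rw [pushT_of_mem T f ha]; exact Basic.tr_push_mul T f i ⟨a, ha⟩ b
  | zero => simp
  | add c d hc hd => rw [map_add, add_mul, map_add, add_mul, map_add, hc, hd]

theorem pushT_eq_of {X Y : P.FullSubcategory} (f : X ⟶ Y) (a : T.H X) (c : T.H Y)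
    (H : ∀ (j : ℤ) (b : T.H Y), b ∈ T.gr Y j → T.tr X (a * T.pull f b) = T.tr Y (c * b)) :
    pushT T f a = c := by
  apply Basic.eq_of_tr_hom T
  intro j b hb
  rw [tr_pushT_mul]
  exact H j b hb

/-! ### the action of correspondences -/

section Corr

variable {X Y Q : P.FullSubcategory} (p : Q ⟶ X) (q : Q ⟶ Y)

/-- the action `x ↦ q_*(p^* x · c)` of a class on the product, on the total cohomology -/
noncomputable def corr (c : T.H Q) : T.H X →ₗ[K] T.H Y :=
  pushT T q ∘ₗ LinearMap.mulRight K c ∘ₗ (T.pull p).toLinearMap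

theorem corr_apply (c : T.H Q) (x : T.H X) : corr T p q c x = pushT T q (T.pull p x * c) := rfl

theorem corr_add (c d : T.H Q) : corr T p q (c + d) = corr T p q c + corr T p q d := by
  ext x
  simp only [corr_apply, LinearMap.add_apply, mul_add, map_add]

theorem corr_smul (r : K) (c : T.H Q) : corr T p q (r • c) = r • corr T p q c := by
  ext x
  simp only [corr_apply, LinearMap.smul_apply, mul_smul_comm, map_smul]

theorem corr_zero : corr T p q 0 = 0 := by
  ext x
  simp only [corr_apply, LinearMap.zero_apply, mul_zero, map_zero]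

theorem tr_corr_mul (c : T.H Q) (x : T.H X) (y : T.H Y) :
    T.tr Y (corr T p q c x * y) = T.tr Q (T.pull p x * c * T.pull q y) := by
  rw [corr_apply, tr_pushT_mul]

theorem corr_mem (hQ : IsProd p q) {m i : ℤ} {c : T.H Q} {x : T.H X} (hc : c ∈ T.gr Q m)
    (hx : x ∈ T.gr X i) : corr T p q c x ∈ T.gr Y (i + m - 2 * (WeilCoh.dim X.obj.left : ℤ)) := by
  have h := pushT_mem T q (Basic.mul_mem T (T.pull_mem p i x hx) hc)
  have hd := Basic.dim_prod_int T hQ
  rw [corr_apply]
  convert h using 2
  omega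

/-- decomposable classes act by rank one operators -/
theorem corr_pull_mul_pull (hQ : IsProd p q) (a x : T.H X) (b : T.H Y) :
    corr T p q (T.pull p a * T.pull q b) x = T.tr X (x * a) • b := by
  rw [corr_apply]
  apply pushT_eq_of
  intro j y _
  rw [smul_mul_assoc, map_smul, smul_eq_mul, ← Basic.tr_pull_mul_pull T hQ]
  simp only [map_mul, mul_assoc]

end Corr

/-! ### traces of rank one operators on graded pieces -/

theorem restrict_mem {X Y : P.FullSubcategory} (A : T.H X →ₗ[K] T.H Y) {i j : ℤ}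
    (h : ∀ x ∈ T.gr X i, A x ∈ T.gr Y j) (x : T.gr X i) :
    ((A.restrict h x : T.gr Y j) : T.H Y) = A x := rfl

/-- trace of a rank one operator -/
theorem trace_rankOne {V : Type w} [AddCommGroup V] [Module K V] [Module.Finite K V]
    (f : V →ₗ[K] K) (v : V) (A : V →ₗ[K] V) (h : ∀ x, A x = f x • v) :
    LinearMap.trace K V A = f v := by
  have : A = f.smulRight v := by
    ext x
    rw [h]; rfl
  rw [this, LinearMap.trace_smulRight]

end K861.Total
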