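import Groth.Agent.WeilCoh.K861.Fixed
import Groth.Agent.S13050
import Groth.Agent.S13056

/-!
# Counting the fixed points of the powers of the Frobenius
-/

set_option autoImplicit false

universe u v w

open CategoryTheory AlgebraicGeometry WeilCoh
open Groth.Agent.Sga5.H858.AbsFrob

namespace K861.Count

/-- iterates of an endomorphism -/
noncomputable def iter {C : Type u} [Category.{v} C] {X : C} (F : X ⟶ X) : ℕ → (X ⟶ X)
  | 0 => 𝟙 X
  | n + 1 => F ≫ iter F n

theorem pullDeg_iter {k : Type u} [Field k] {P : ObjectProperty (Over (Spec (CommRingCat.of k)))}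
    {K : Type v} [Field K] (T : TheoryOn.{u, v, w} k P K) {X : P.FullSubcategory} (F : X ⟶ X)
    (i : ℤ) (n : ℕ) : T.pullDeg (iter F n) i = T.pullDeg F i ^ n := by
  induction n with
  | zero =>
    ext a
    rw [pow_zero, Basic.coe_pullDeg]
    exact Basic.pull_id_apply T _
  | succ n ih =>
    rw [pow_succ', ← ih]
    ext a
    exact Basic.pull_comp_apply T F (iter F n) _

section Field

variable {k₀ : Type u} [Field k₀] [Finite k₀] {k : Type u} [Field k] [IsAlgClosed k] [Algebra k₀ k]

/-- the `q`-th power map -/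
theorem exists_frobHom (k₀ : Type u) [Field k₀] [Finite k₀] (k : Type u) [Field k] [Algebra k₀ k] :
    ∃ φ : k →+* k, ∀ a, φ a = a ^ Nat.card k₀ := by
  classical
  obtain ⟨p, hp0⟩ := CharP.exists k₀
  have := Fintype.ofFinite k₀
  obtain ⟨n, hp, hn⟩ := FiniteField.card k₀ p
  have hfact : Fact p.Prime := ⟨hp⟩
  have hchk : CharP k p := charP_of_injective_algebraMap (algebraMap k₀ k).injective p
  refine ⟨iterateFrobenius k p n, fun a => ?_⟩
  rw [iterateFrobenius_def, Nat.card_eq_fintype_card, hn]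

omit [IsAlgClosed k] in
theorem pow_apply (φ : k →+* k) (q : ℕ) (h : ∀ a, φ a = a ^ q) (n : ℕ) (a : k) :
    (φ ^ n) a = a ^ q ^ n := by
  induction n generalizing a with
  | zero => simp
  | succ n ih =>
    rw [pow_succ, RingHom.mul_def, RingHom.comp_apply, ih, h, ← pow_mul, pow_succ, mul_comm]

/-- the elements fixed by the `q^m`-power map are those of the extension of degree `m` -/
theorem mem_range_of_pow_eq {k' : Type u} [Field k'] [Algebra k₀ k'] [Finite k'] (i : k' →ₐ[k₀] k)
    (a : k) (ha : a ^ Nat.card k' = a) : ∃ b, i b = a := by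
  classical
  have := Fintype.ofFinite k'
  rw [Nat.card_eq_fintype_card] at ha
  by_contra hcon
  push Not at hcon
  have hne : (Polynomial.X ^ Fintype.card k' - Polynomial.X : Polynomial k) ≠ 0 :=
    FiniteField.X_pow_card_sub_X_ne_zero k Fintype.one_lt_card
  have hdeg : (Polynomial.X ^ Fintype.card k' - Polynomial.X : Polynomial k).natDegree =
      Fintype.card k' := FiniteField.X_pow_card_sub_X_natDegree_eq k Fintype.one_lt_card
  have hsub : insert a (Finset.univ.image i) ⊆
      (Polynomial.X ^ Fintype.card k' - Polynomial.X : Polynomial k).roots.toFinset := by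
    intro b hb
    rw [Multiset.mem_toFinset, Polynomial.mem_roots hne, Polynomial.IsRoot.def]
    simp only [Polynomial.eval_sub, Polynomial.eval_pow, Polynomial.eval_X]
    rcases Finset.mem_insert.1 hb with rfl | hb
    · rw [ha, sub_self]
    · obtain ⟨c, -, rfl⟩ := Finset.mem_image.1 hb
      rw [← map_pow, FiniteField.pow_card, sub_self]
  have h1 := (Finset.card_le_card hsub).trans (Multiset.toFinset_card_le _)
  have h2 := Polynomial.card_roots' (Polynomial.X ^ Fintype.card k' - Polynomial.X : Polynomial k)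
  rw [Finset.card_insert_of_notMem, Finset.card_image_of_injective _ (show Function.Injective (⇑i) from i.injective),
    Finset.card_univ] at h1
  · omega
  · intro h
    obtain ⟨c, -, hc⟩ := Finset.mem_image.1 h
    exact hcon c hc

end Field

section points

variable {k₀ : Type u} [Field k₀] [Finite k₀] {k : Type u} [Field k] [IsAlgClosed k] [Algebra k₀ k]
  {X : Scheme.{u}} (f : X ⟶ Spec (CommRingCat.of k₀))

/-- the number of points over the extension of degree `m` -/
theorem card_points (m : ℕ) (hm : m ≠ 0) [LocallyOfFiniteType f] [QuasiCompact f]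
    (ψ : k →+* k) (hψ : ∀ a, ψ a = a ^ (Nat.card k₀ ^ m)) :
    Nat.card {y : Spec (CommRingCat.of k) ⟶ X //
      y ≫ f = Spec.map (CommRingCat.ofHom (algebraMap k₀ k)) ∧
        Spec.map (CommRingCat.ofHom ψ) ≫ y = y} = Zeta.nPts f m := by
  obtain ⟨k', _, _, _, hk'⟩ := Groth.Agent.MiscA.PointCount.exists_extension k₀ m hm
  have hfin : FiniteDimensional k₀ k' := Module.Finite.of_finite
  have halg : Algebra.IsAlgebraic k₀ k' := inferInstance
  let i : k' →ₐ[k₀] k := IsAlgClosed.lift
  have hcard : Nat.card k' = Nat.card k₀ ^ m := by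
    rw [← hk']
    exact Module.natCard_eq_pow_finrank
  have hiψ : ψ.comp (i : k' →+* k) = (i : k' →+* k) := by
    ext b
    change ψ (i b) = i b
    rw [hψ, ← map_pow, ← hcard]
    have := Fintype.ofFinite k'
    rw [Nat.card_eq_fintype_card, FiniteField.pow_card]
  have hi0 : (i : k' →+* k).comp (algebraMap k₀ k') = algebraMap k₀ k := i.comp_algebraMap
  have hepi : Epi (Spec.map (CommRingCat.ofHom (i : k' →+* k))) := by
    have h1 : Flat (Spec.map (CommRingCat.ofHom (i : k' →+* k))) := by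
      rw [Flat.SpecMap_iff]
      exact .of_isField (Field.toIsField k') _
    have h2 : Surjective (Spec.map (CommRingCat.ofHom (i : k' →+* k))) := by
      refine ⟨fun z => ?_⟩
      have : Subsingleton (Spec (CommRingCat.of k')) :=
        inferInstanceAs (Subsingleton (PrimeSpectrum k'))
      have : Nonempty (Spec (CommRingCat.of k)) := inferInstanceAs (Nonempty (PrimeSpectrum k))
      exact ⟨Classical.arbitrary _, Subsingleton.elim _ _⟩
    exact Flat.epi_of_flat_of_surjective _
  rw [← hk', ← Groth.Agent.S13050.result f k']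
  unfold SgaExt.pointCount
  symm
  refine Nat.card_congr (Equiv.ofBijective (fun z => ⟨Spec.map (CommRingCat.ofHom (i : k' →+* k)) ≫ z.1,
    ?_, ?_⟩) ⟨?_, ?_⟩)
  · rw [Category.assoc, z.2, ← Spec.map_comp, ← CommRingCat.ofHom_comp, hi0]
  · rw [← Category.assoc, ← Spec.map_comp, ← CommRingCat.ofHom_comp, hiψ]
  · intro z z' h
    apply Subtype.ext
    have h1 := congrArg Subtype.val h
    exact (cancel_epi (Spec.map (CommRingCat.ofHom (i : k' →+* k)))).1 h1
  · rintro ⟨y, hy, hy'⟩
    let s := Scheme.SpecToEquivOfField k X y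
    have hs : Spec.map s.2 ≫ X.fromSpecResidueField s.1 = y :=
      (Scheme.SpecToEquivOfField k X).symm_apply_apply y
    have h1 : s.2 ≫ CommRingCat.ofHom ψ = s.2 := by
      apply Spec.map_injective
      rw [Spec.map_comp, ← cancel_mono (X.fromSpecResidueField s.1), Category.assoc, hs, hy']
    have h2 : ∀ a : X.residueField s.1, s.2.hom a ∈ (i : k' →+* k).range := by
      intro a
      have h3 : ψ (s.2.hom a) = s.2.hom a := congrArg (fun g => g.hom a) h1
      obtain ⟨b, hb⟩ := mem_range_of_pow_eq i (s.2.hom a) (by rw [hcard, ← hψ, h3])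
      exact ⟨b, hb⟩
    have hbij : Function.Bijective (i : k' →+* k).rangeRestrict :=
      ⟨fun a b hab => i.injective (congrArg Subtype.val hab), (i : k' →+* k).rangeRestrict_surjective⟩
    let e : k' ≃+* (i : k' →+* k).range := RingEquiv.ofBijective _ hbij
    have he : ∀ b, ((e b : (i : k' →+* k).range) : k) = i b := fun b => rfl
    let α : X.residueField s.1 →+* k' := (e.symm : (i : k' →+* k).range →+* k').comp
      ((s.2.hom).codRestrict (i : k' →+* k).range h2)
    have hα : (CommRingCat.ofHom α) ≫ (CommRingCat.ofHom (i : k' →+* k)) = s.2 := by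
      ext a
      change i (e.symm ⟨s.2.hom a, h2 a⟩) = s.2.hom a
      rw [← he, RingEquiv.apply_symm_apply]
    refine ⟨⟨Spec.map (CommRingCat.ofHom α) ≫ X.fromSpecResidueField s.1, ?_⟩, ?_⟩
    · rw [← cancel_epi (Spec.map (CommRingCat.ofHom (i : k' →+* k))), ← Spec.map_comp,
        ← CommRingCat.ofHom_comp, hi0, ← hy, ← hs, ← hα, Spec.map_comp]
      simp only [Category.assoc]
    · apply Subtype.ext
      change Spec.map (CommRingCat.ofHom (i : k' →+* k)) ≫ Spec.map (CommRingCat.ofHom α) ≫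
        X.fromSpecResidueField s.1 = y
      rw [← Category.assoc, ← Spec.map_comp, hα, hs]

end points

section Setup

variable {k₀ : Type u} [Field k₀] [Finite k₀] {k : Type u} [Field k] [IsAlgClosed k]
    [Algebra k₀ k] {X : Scheme.{u}} (f : X ⟶ Spec (CommRingCat.of k₀))
    (FX : X ⟶ X) (hFb : FX.base = 𝟙 _) (hle : ∀ U : X.Opens, U ≤ FX ⁻¹ᵁ U)
    (hFapp : ∀ (U : X.Opens) (s : Γ(X, U)), (FX.appLE U U (hle U)).hom s = s ^ Nat.card k₀)
    (Xb : Var k) (π : Xb.obj.left ⟶ X)
    (hπ : IsPullback π Xb.obj.hom f (Spec.map (CommRingCat.ofHom (algebraMap k₀ k))))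
    (F : Xb ⟶ Xb) (hF : sm F ≫ π = π ≫ FX)

include f hFb hFapp

omit [IsAlgClosed k] in
/-- naturality of the Frobenius at field-valued points -/
theorem point_comp_F (φ : k →+* k) (hφ : ∀ a, φ a = a ^ Nat.card k₀)
    (y : Spec (CommRingCat.of k) ⟶ X) : y ≫ FX = Spec.map (CommRingCat.ofHom φ) ≫ y := by
  classical
  obtain ⟨p, hp0⟩ := CharP.exists k₀
  have := Fintype.ofFinite k₀
  obtain ⟨n, hp, hn⟩ := FiniteField.card k₀ p
  have hfact : Fact p.Prime := ⟨hp⟩
  have hchk : CharP k p := charP_of_injective_algebraMap (algebraMap k₀ k).injective p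
  have h0 : ((p : ℕ) : k₀) = 0 := CharP.cast_eq_zero k₀ p
  have h1 : ((p : ℕ) : k) = 0 := CharP.cast_eq_zero k p
  have hX := char_zero_of_hom f (char_zero_spec (CommRingCat.of k₀) (p := p) h0)
  have hcard : Nat.card k₀ = p ^ (n : ℕ) := by rw [Nat.card_eq_fintype_card, hn]
  have hFX : FX = frob X p hp hX n := Frob.eq_frob p hp hX n FX hFb hle
    (fun U s => by rw [hFapp, hcard])
  have hfs : frob (Spec (CommRingCat.of k)) p hp (char_zero_spec (CommRingCat.of k) (p := p) h1) n =
      Spec.map (CommRingCat.ofHom φ) :=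
    frob_spec (CommRingCat.of k) p hp h1 n φ (fun a => by rw [hφ, hcard])
  rw [hFX, ← frob_comp y p hp (char_zero_spec (CommRingCat.of k) (p := p) h1) hX n, hfs]

include hF

theorem point_comp_iter (φ : k →+* k) (hφ : ∀ a, φ a = a ^ Nat.card k₀) (n : ℕ)
    (x : Spec (CommRingCat.of k) ⟶ Xb.obj.left) :
    (x ≫ sm (iter F n)) ≫ π = Spec.map (CommRingCat.ofHom (φ ^ n)) ≫ x ≫ π := by
  induction n generalizing x with
  | zero =>
    have h1 : CommRingCat.ofHom ((φ ^ 0 : k →+* k)) = 𝟙 _ := rfl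
    rw [h1, Spec.map_id]
    change (x ≫ 𝟙 _) ≫ π = 𝟙 _ ≫ x ≫ π
    simp
  | succ n ih =>
    have h1 : sm (iter F (n + 1)) = sm F ≫ sm (iter F n) := rfl
    have h2 := ih (x ≫ sm F)
    rw [h1, ← Category.assoc x, h2, Category.assoc x, hF, ← Category.assoc x π,
      point_comp_F f FX hFb hle hFapp φ hφ, ← Category.assoc, ← Spec.map_comp, ← CommRingCat.ofHom_comp]
    rfl

end Setup

section Equiv

variable {k : Type u} [Field k] [IsAlgClosed k]

/-- points as morphisms of schemes -/
noncomputable def ptEquiv (Xb : Var k) (G : Xb ⟶ Xb) :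
    {x : Point.pt k ⟶ Xb // x ≫ G = x} ≃
      {x : Spec (CommRingCat.of k) ⟶ Xb.obj.left // x ≫ Xb.obj.hom = 𝟙 _ ∧ x ≫ sm G = x} where
  toFun x := ⟨sm x.1, Dim.w x.1, congrArg (fun t => sm t) x.2⟩
  invFun x := ⟨ObjectProperty.homMk (Over.homMk x.1 x.2.1), by
    apply ObjectProperty.hom_ext
    apply Over.OverMorphism.ext
    exact x.2.2⟩
  left_inv x := rfl
  right_inv x := rfl

end Equiv

section Setup

variable {k₀ : Type u} [Field k₀] [Finite k₀] {k : Type u} [Field k] [IsAlgClosed k]
    [Algebra k₀ k] {X : Scheme.{u}} (f : X ⟶ Spec (CommRingCat.of k₀))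
    (FX : X ⟶ X) (hFb : FX.base = 𝟙 _) (hle : ∀ U : X.Opens, U ≤ FX ⁻¹ᵁ U)
    (hFapp : ∀ (U : X.Opens) (s : Γ(X, U)), (FX.appLE U U (hle U)).hom s = s ^ Nat.card k₀)
    (Xb : Var k) (π : Xb.obj.left ⟶ X)
    (hπ : IsPullback π Xb.obj.hom f (Spec.map (CommRingCat.ofHom (algebraMap k₀ k))))
    (F : Xb ⟶ Xb) (hF : sm F ≫ π = π ≫ FX)

include hFb hFapp hF hπ

theorem card_fixed [LocallyOfFiniteType f] [QuasiCompact f] (m : ℕ) (hm : m ≠ 0) :
    Nat.card {x : Point.pt k ⟶ Xb // x ≫ iter F m = x} = Zeta.nPts f m := by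
  obtain ⟨φ, hφ⟩ := exists_frobHom k₀ k
  rw [← card_points f m hm (φ ^ m) (pow_apply φ _ hφ m), Nat.card_congr (ptEquiv Xb (iter F m))]
  refine Nat.card_congr
    { toFun := fun x => ⟨x.1 ≫ π, ?_, ?_⟩
      invFun := fun y => ⟨hπ.lift y.1 (𝟙 _) (by rw [y.2.1, Category.id_comp]), hπ.lift_snd _ _ _, ?_⟩
      left_inv := fun x => ?_
      right_inv := fun y => ?_ }
  · rw [Category.assoc, hπ.w, ← Category.assoc, x.2.1, Category.id_comp]
  · rw [← point_comp_iter f FX hFb hle hFapp Xb π F hF φ hφ m x.1, x.2.2]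
  · apply hπ.hom_ext
    · rw [point_comp_iter f FX hFb hle hFapp Xb π F hF φ hφ m, hπ.lift_fst]
      exact y.2.2
    · rw [Category.assoc, Dim.w]
  · apply Subtype.ext
    apply hπ.hom_ext
    · rw [hπ.lift_fst]
    · rw [hπ.lift_snd, x.2.1]
  · apply Subtype.ext
    exact hπ.lift_fst _ _ _

end Setup

end K861.Count
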