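import Groth.Agent.WeilCoh.K861.Basic
import Groth.Agent.CycB.RelDim2
import Groth.Agent.CycB.FlatProper
import Groth.Agent.CycB.Push
import Groth.Agent.CycB.DivNat
import Groth.Agent.CurvesA.ResDegOne
import Groth.Agent.CycB.P1PtClosure

/-!
# Weil cohomology theories: dimensions of closures of points, the point, residue degrees
-/

set_option autoImplicit false

universe u v w

open CategoryTheory AlgebraicGeometry TensorProduct WeilCoh
open Groth.Agent.CycB

namespace K861.Dim

theorem natDim_eq {T : Type u} [TopologicalSpace T] {n : ℕ} (h : topologicalKrullDim T = n) :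
    natDim T = n := by
  unfold natDim
  rw [h]
  rfl

section Field

variable {k : Type u} [Field k]

/-- the dimension of the closure of a point is the transcendence degree of its residue field -/
theorem rtd_eq_pdim {X : Scheme.{u}} (p : X ⟶ Spec (CommRingCat.of k)) [LocallyOfFiniteType p] (x : X) :
    RelDim.rtd p x = (pdim X x : Cardinal.{u}) ∧
      topologicalKrullDim (closure ({x} : Set X)) = (pdim X x : ℕ) := by
  obtain ⟨n, hn, hn'⟩ := RelDim.exists_dim_closure p (isAffineOpen_top _)
    ((Scheme.ΓSpecIso (CommRingCat.of k)).commRingCatIsoToRingEquiv.toMulEquiv.isField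
      (Field.toIsField _)) x
  have : pdim X x = n := natDim_eq hn'
  rw [this]
  exact ⟨hn, hn'⟩

theorem pdim_eq_of_rtd {X Y : Scheme.{u}} (f : X ⟶ Y) (p : Y ⟶ Spec (CommRingCat.of k))
    [LocallyOfFiniteType p] [LocallyOfFiniteType (f ≫ p)] (x : X) (h : RelDim.rtd f x = 0) :
    pdim X x = pdim Y (f x) := by
  have h1 := (rtd_eq_pdim (f ≫ p) x).1
  have h2 := (rtd_eq_pdim p (f x)).1
  rw [RelDim.rtd_comp, h, add_zero, h2] at h1
  exact_mod_cast h1.symm

theorem rtd_eq_zero_of_residueDegree_ne_zero {X Y : Scheme.{u}} (f : X ⟶ Y) (x : X)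
    (h : f.residueDegree x ≠ 0) : RelDim.rtd f x = 0 := by
  let i : Algebra (Y.residueField (f x)) (X.residueField x) := (f.residueFieldMap x).hom.toAlgebra
  have hfin : Module.Finite (Y.residueField (f x)) (X.residueField x) :=
    Module.finite_of_finrank_pos (Nat.pos_of_ne_zero h)
  exact trdeg_eq_zero_iff.mpr inferInstance

end Field

/-! ### objects of the category -/

section Var

variable {k : Type u} [Field k]

instance instSmooth (X : Var k) : Smooth X.obj.hom := X.property.1

instance instIrr (X : Var k) : IrreducibleSpace ↥X.obj.left := X.property.2.2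

instance instLFT (X : Var k) : LocallyOfFiniteType X.obj.hom := inferInstance

theorem w {X Y : Var k} (f : X ⟶ Y) : sm f ≫ Y.obj.hom = X.obj.hom := Over.w f.hom

theorem krullDim_closure (X : Var k) (x : X.obj.left) :
    topologicalKrullDim (closure ({x} : Set X.obj.left)) = (pdim X.obj.left x : ℕ) :=
  (rtd_eq_pdim X.obj.hom x).2

theorem pdim_genericPoint (X : Var k) :
    pdim X.obj.left (genericPoint ↥X.obj.left) = WeilCoh.dim X.obj.left := by
  have h : topologicalKrullDim (closure ({genericPoint ↥X.obj.left} : Set X.obj.left)) =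
      topologicalKrullDim X.obj.left := by
    have : closure ({genericPoint ↥X.obj.left} : Set X.obj.left) = Set.univ := genericPoint_closure _
    rw [this]
    exact IsHomeomorph.topologicalKrullDim_eq _ (Homeomorph.Set.univ _).isHomeomorph
  unfold pdim WeilCoh.dim natDim
  rw [h]

theorem krullDim (X : Var k) : topologicalKrullDim X.obj.left = (WeilCoh.dim X.obj.left : ℕ) := by
  have h : topologicalKrullDim (closure ({genericPoint ↥X.obj.left} : Set X.obj.left)) =
      topologicalKrullDim X.obj.left := by
    have : closure ({genericPoint ↥X.obj.left} : Set X.obj.left) = Set.univ := genericPoint_closure _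
    rw [this]
    exact IsHomeomorph.topologicalKrullDim_eq _ (Homeomorph.Set.univ _).isHomeomorph
  rw [← h, krullDim_closure, pdim_genericPoint]

theorem pdim_le_dim (X : Var k) (x : X.obj.left) : pdim X.obj.left x ≤ WeilCoh.dim X.obj.left := by
  have h : topologicalKrullDim (closure ({x} : Set X.obj.left)) ≤ topologicalKrullDim X.obj.left :=
    Topology.IsInducing.subtypeVal.topologicalKrullDim_le
  rw [krullDim, krullDim_closure] at h
  exact_mod_cast h

theorem codim_eq (X : Var k) (x : X.obj.left) :
    (codim X.obj.left x : ℤ) = WeilCoh.dim X.obj.left - pdim X.obj.left x := by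
  have := pdim_le_dim X x
  unfold codim
  omega

theorem codim_genericPoint (X : Var k) :
    codim X.obj.left (genericPoint ↥X.obj.left) = 0 := by
  unfold codim
  rw [pdim_genericPoint]
  exact Nat.sub_self _

theorem pdim_of_isClosed (X : Scheme.{u}) (x : X) (hx : IsClosed ({x} : Set X)) :
    pdim X x = 0 := by
  unfold pdim
  rw [hx.closure_eq]
  have h1 : topologicalKrullDim ({x} : Set X) ≤ 0 := by
    have : DiscreteTopology (({x} : Set X)) := Subsingleton.discreteTopology
    exact topologicalKrullDim_zero_of_discreteTopology _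
  unfold natDim
  generalize topologicalKrullDim ({x} : Set X) = d at h1
  induction d with
  | bot => rfl
  | coe d =>
    have : d = 0 := by
      have : d ≤ 0 := by exact_mod_cast h1
      exact le_antisymm this bot_le
    rw [this]; rfl

theorem pdim_of_residueDegree_ne_zero {X Y : Var k} (f : X ⟶ Y) (x : X.obj.left)
    (h : (sm f).residueDegree x ≠ 0) : pdim X.obj.left x = pdim Y.obj.left (sm f x) := by
  have h0 := rtd_eq_zero_of_residueDegree_ne_zero (sm f) x h
  have : LocallyOfFiniteType (sm f ≫ Y.obj.hom) := by
    rw [w]; infer_instance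
  exact pdim_eq_of_rtd (sm f) Y.obj.hom x h0

end Var

section AlgClosed

variable {k : Type u} [Field k] [IsAlgClosed k] {K : Type v} [Field K] [CharZero K] (T : Theory k K)

/-- Push-forward identity for classes, in all degrees. -/
theorem cl_push_all {X Y : Var k} (f : X ⟶ Y) (ξ : X.obj.left) (a : T.H Y) :
    T.tr X (T.cl X ξ * T.pull f a) =
      ((sm f).residueDegree ξ : K) * T.tr Y (T.cl Y (sm f ξ) * a) := by
  induction a using Basic.hom_induction T with
  | hom i a ha =>
    by_cases hi : i = 2 * (pdim X.obj.left ξ : ℤ)
    · subst hi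
      exact T.cl_push f ξ a ha
    · have hc := codim_eq X ξ
      rw [Basic.tr_of_ne T (Basic.mul_mem T (T.cl_mem X ξ) (T.pull_mem f i a ha)) (by omega)]
      by_cases hr : (sm f).residueDegree ξ = 0
      · rw [hr]; simp
      · have h1 := pdim_of_residueDegree_ne_zero f ξ hr
        have hc' := codim_eq Y (sm f ξ)
        rw [Basic.tr_of_ne T (Basic.mul_mem T (T.cl_mem Y (sm f ξ)) ha) (by omega), mul_zero]
  | zero => simp
  | add c d hc hd => rw [map_add, mul_add, map_add, hc, hd, mul_add, map_add, mul_add]

end AlgClosed

end K861.Dim
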