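import Groth.Agent.WeilCoh.K861.FrobDeg
import Groth.Agent.WeilCoh.K861.Graph
import Mathlib.RingTheory.Nakayama

/-!
# The intersection of the graph of a Frobenius with the diagonal is transverse
-/

set_option autoImplicit false

universe u v w

open CategoryTheory AlgebraicGeometry WeilCoh IsLocalRing
open Groth.Agent.Sga5.H858.AbsFrob

namespace K861.Fixed

/-- the map on stalks sends the maximal ideal into the square of the maximal ideal -/
def Sq {Y Z : Scheme.{u}} (G : Y ⟶ Z) : Prop :=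
  ∀ (w : Y) (a : Z.presheaf.stalk (G w)), a ∈ maximalIdeal (Z.presheaf.stalk (G w)) →
    (G.stalkMap w).hom a ∈ maximalIdeal (Y.presheaf.stalk w) ^ 2

theorem mem_of_mem {Y Z : Scheme.{u}} (G : Y ⟶ Z) (w : Y) (a : Z.presheaf.stalk (G w))
    (ha : a ∈ maximalIdeal (Z.presheaf.stalk (G w))) :
    (G.stalkMap w).hom a ∈ maximalIdeal (Y.presheaf.stalk w) := by
  have : IsLocalHom (G.stalkMap w).hom := inferInstance
  rw [mem_maximalIdeal, mem_nonunits_iff] at ha ⊢
  exact fun h => ha (isUnit_of_map_unit (G.stalkMap w).hom a h)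

theorem Sq.comp_left {X Y Z : Scheme.{u}} {F : X ⟶ Y} (hF : Sq F) (G : Y ⟶ Z) : Sq (F ≫ G) := by
  intro w a ha
  have h1 : (F ≫ G).stalkMap w = G.stalkMap (F w) ≫ F.stalkMap w := Scheme.Hom.stalkMap_comp F G w
  rw [h1]
  exact hF w _ (mem_of_mem G (F w) a ha)

theorem germ_mem_iff {Y : Scheme.{u}} (V : Y.Opens) (w : Y) (hw : w ∈ V) (s : Γ(Y, V)) :
    (Y.presheaf.germ V w hw).hom s ∈ maximalIdeal (Y.presheaf.stalk w) ↔ w ∉ Y.basicOpen s := by
  rw [mem_maximalIdeal, mem_nonunits_iff]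
  exact not_congr (Scheme.mem_basicOpen Y s w hw).symm

theorem sq_frob_aux {X : Scheme.{u}} (p : ℕ) (hp : p.Prime)
    (h : ∀ U : X.Opens, ((p : ℕ) : Γ(X, U)) = 0) (n : ℕ) (hn : n ≠ 0) (g : X ⟶ X) (w : X)
    (a : X.presheaf.stalk (g w)) (ha : a ∈ maximalIdeal (X.presheaf.stalk (g w))) :
    (g.stalkMap w).hom (((frob X p hp h n).stalkMap (g w)).hom a) ∈
      maximalIdeal (X.presheaf.stalk w) ^ 2 := by
  have h3 := FrobDeg.frob_stalkMap p hp h n (g w) a
  have h4 : (g.stalkMap w).hom (((frob X p hp h n).stalkMap (g w)).hom a) =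
      (g.stalkMap w).hom (a ^ p ^ n : X.presheaf.stalk (g w)) := congrArg (g.stalkMap w).hom h3
  rw [h4, map_pow]
  have h2 : 2 ≤ p ^ n := (hp.two_le).trans (Nat.le_self_pow hn p)
  exact Ideal.pow_le_pow_right h2 (Ideal.pow_mem_pow (mem_of_mem g w a ha) _)

theorem sq_frob {X : Scheme.{u}} (p : ℕ) (hp : p.Prime) (h : ∀ U : X.Opens, ((p : ℕ) : Γ(X, U)) = 0)
    (n : ℕ) (hn : n ≠ 0) (g : X ⟶ X) : Sq (g ≫ frob X p hp h n) := by
  intro w a ha
  have h1 : (g ≫ frob X p hp h n).stalkMap w = (frob X p hp h n).stalkMap (g w) ≫ g.stalkMap w :=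
    Scheme.Hom.stalkMap_comp _ _ w
  rw [h1]
  exact sq_frob_aux p hp h n hn g w a ha

section Local

variable {P Y : Scheme.{u}}

theorem stalkMap_germ_of_eq_id (r : Y ⟶ Y) (hr : r = 𝟙 Y) (V : Y.Opens) (w : Y)
    (h : r w ∈ V) (h' : w ∈ V) (s : Γ(Y, V)) :
    (r.stalkMap w).hom (Y.presheaf.germ V (r w) h s) = Y.presheaf.germ V w h' s := by
  subst hr
  have h1 : (𝟙 Y : Y ⟶ Y).stalkMap w = 𝟙 _ := Scheme.Hom.stalkMap_id Y w
  rw [h1]
  rfl

theorem residueFieldMap_specMap (d : Y ⟶ P) (p : P ⟶ Y) (hdp : d ≫ p = 𝟙 Y) (η : Y) (x : P)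
    (h : d η ⤳ x) (V : Y.Opens) (hx : p x ∈ V) (hη : η ∈ V) (s : Γ(Y, V)) :
    (d.residueFieldMap η).hom
      (Cyc.specMap x (d η) h ((p.stalkMap x).hom (Y.presheaf.germ V (p x) hx s))) =
        (Y.residue η).hom (Y.presheaf.germ V η hη s) := by
  have h1 : Y.presheaf.stalkSpecializes (p.base.hom.map_specializes h)
      (Y.presheaf.germ V (p x) hx s) = Y.presheaf.germ V (p (d η))
        ((p.base.hom.map_specializes h).mem_open V.isOpen hx) s :=
    TopCat.Presheaf.germ_stalkSpecializes_apply _ _ _ _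
  have h2 := Scheme.Hom.stalkSpecializes_stalkMap_apply p (d η) x h (Y.presheaf.germ V (p x) hx s)
  rw [h1] at h2
  have h3 : Cyc.specMap x (d η) h ((p.stalkMap x).hom (Y.presheaf.germ V (p x) hx s)) =
      (P.residue (d η)).hom ((p.stalkMap (d η)).hom (Y.presheaf.germ V (p (d η))
        ((p.base.hom.map_specializes h).mem_open V.isOpen hx) s)) := by
    change (P.residue (d η)).hom (P.presheaf.stalkSpecializes h ((p.stalkMap x).hom _)) = _
    exact congrArg (P.residue (d η)).hom h2.symm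
  rw [h3]
  have h4 := Scheme.residue_residueFieldMap d η
  have h5 := congrArg (fun g => g.hom ((p.stalkMap (d η)).hom (Y.presheaf.germ V (p (d η))
        ((p.base.hom.map_specializes h).mem_open V.isOpen hx) s))) h4
  refine h5.trans ?_
  change (Y.residue η).hom ((d.stalkMap η).hom ((p.stalkMap (d η)).hom _)) = _
  congr 1
  have h6 : (d ≫ p).stalkMap η = p.stalkMap (d η) ≫ d.stalkMap η := Scheme.Hom.stalkMap_comp _ _ η
  have h7 := stalkMap_germ_of_eq_id (d ≫ p) hdp V η
    ((p.base.hom.map_specializes h).mem_open V.isOpen hx) hη s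
  rw [h6] at h7
  exact h7

theorem map_ker_eq [IsLocallyNoetherian Y] (p q : P ⟶ Y) (j d : Y ⟶ P) (hjp : j ≫ p = 𝟙 Y)
    (hdp : d ≫ p = 𝟙 Y) (hdq : d ≫ q = 𝟙 Y) (hG : Sq (j ≫ q)) (η w : Y) (h : d η ⤳ j w)
    (hη : η ⤳ w) (hw : (j ≫ q) w = w) :
    Ideal.map (j.stalkMap w).hom (RingHom.ker (Cyc.specMap (j w) (d η) h)) =
      maximalIdeal (Y.presheaf.stalk w) := by
  refine le_antisymm (Point.map_ker_specMap_le j (d η) w (specializes_iff_mem_closure.mp h)) ?_
  set I := Ideal.map (j.stalkMap w).hom (RingHom.ker (Cyc.specMap (j w) (d η) h)) with hI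
  refine Submodule.le_of_le_smul_of_le_jacobson_bot (I := maximalIdeal (Y.presheaf.stalk w))
    (IsNoetherian.noetherian _) (IsLocalRing.maximalIdeal_le_jacobson _) ?_
  intro a ha
  obtain ⟨V, hwV, s, rfl⟩ := Y.presheaf.exists_germ_eq a
  have hpw : p (j w) = w := by
    have := congrArg (fun r : Y ⟶ Y => r w) hjp
    exact this
  have hqw : q (j w) = w := hw
  have hpV : p (j w) ∈ V := by rw [hpw]; exact hwV
  have hqV : q (j w) ∈ V := by rw [hqw]; exact hwV
  have hηV : η ∈ V := hη.mem_open V.isOpen hwV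
  let τp := (p.stalkMap (j w)).hom (Y.presheaf.germ V (p (j w)) hpV s)
  let τq := (q.stalkMap (j w)).hom (Y.presheaf.germ V (q (j w)) hqV s)
  have hker : τp - τq ∈ RingHom.ker (Cyc.specMap (j w) (d η) h) := by
    rw [RingHom.mem_ker]
    apply (d.residueFieldMap η).hom.injective
    rw [map_sub, map_sub, map_zero, residueFieldMap_specMap d p hdp η (j w) h V hpV hηV s,
      residueFieldMap_specMap d q hdq η (j w) h V hqV hηV s, sub_self]
  have h1 : (j.stalkMap w).hom τp = Y.presheaf.germ V w hwV s := by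
    have h6 : (j ≫ p).stalkMap w = p.stalkMap (j w) ≫ j.stalkMap w := Scheme.Hom.stalkMap_comp _ _ w
    have h7 := stalkMap_germ_of_eq_id (j ≫ p) hjp V w hpV hwV s
    rw [h6] at h7
    exact h7
  have h2 : (j.stalkMap w).hom τq ∈ maximalIdeal (Y.presheaf.stalk w) ^ 2 := by
    have h6 : (j ≫ q).stalkMap w = q.stalkMap (j w) ≫ j.stalkMap w := Scheme.Hom.stalkMap_comp _ _ w
    have h8 : q (j w) ∉ Y.basicOpen s := by
      rw [hqw]
      exact (germ_mem_iff V w hwV s).1 ha
    have h7 := hG w (Y.presheaf.germ V (q (j w)) hqV s) ((germ_mem_iff V (q (j w)) hqV s).2 h8)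
    rw [h6] at h7
    exact h7
  have h3 : (Y.presheaf.germ V w hwV).hom s = (j.stalkMap w).hom (τp - τq) + (j.stalkMap w).hom τq := by
    rw [map_sub, sub_add_cancel]
    exact h1.symm
  rw [h3]
  refine Submodule.add_mem_sup (Ideal.mem_map_of_mem _ hker) ?_
  rw [smul_eq_mul, ← pow_two]
  exact h2

theorem eq_of_specializes (j : Y ⟶ P) (ξ : P) (w w' : Y) (hs : w' ⤳ w)
    (h : ξ ⤳ j w) (h' : ξ ⤳ j w')
    (hmap : Ideal.map (j.stalkMap w).hom (RingHom.ker (Cyc.specMap (j w) ξ h)) =
      maximalIdeal (Y.presheaf.stalk w)) : w' = w := by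
  by_contra hne
  have hns : ¬ (w ⤳ w') := fun h1 => hne (h1.antisymm hs).eq.symm
  rw [specializes_iff_forall_open] at hns
  push Not at hns
  obtain ⟨U, hU, hw'U, hwU⟩ := hns
  obtain ⟨_, ⟨V, hV, rfl⟩, hwV, -⟩ := Y.isBasis_affineOpens.exists_subset_of_mem_open (a := w)
    (Set.mem_univ _) isOpen_univ
  have hw'V : w' ∈ V := hs.mem_open V.isOpen hwV
  obtain ⟨s, hsU, hw's⟩ := hV.exists_basicOpen_le (V := ⟨U, hU⟩) ⟨w', hw'U⟩ hw'V
  have hws : w ∉ Y.basicOpen s := fun h1 => hwU (hsU h1)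
  have hm : (Y.presheaf.germ V w hwV).hom s ∈ maximalIdeal (Y.presheaf.stalk w) := by
    rw [mem_maximalIdeal, mem_nonunits_iff]
    intro hu
    exact hws ((Scheme.mem_basicOpen Y s w hwV).mpr hu)
  have hle : maximalIdeal (Y.presheaf.stalk w) ≤
      Ideal.comap (Y.presheaf.stalkSpecializes hs).hom (maximalIdeal (Y.presheaf.stalk w')) := by
    rw [← hmap, Ideal.map_le_iff_le_comap]
    intro a ha
    rw [Ideal.mem_comap, Ideal.mem_comap]
    have h1 := Scheme.Hom.stalkSpecializes_stalkMap_apply j w' w hs a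
    have h2 : (Y.presheaf.stalkSpecializes hs).hom ((j.stalkMap w).hom a) =
      (j.stalkMap w').hom (P.presheaf.stalkSpecializes (j.base.hom.map_specializes hs) a) := h1.symm
    rw [h2]
    apply mem_of_mem
    apply Point.ker_specMap_le (j w') ξ h'
    rw [RingHom.mem_ker] at ha ⊢
    rw [← ha]
    change (P.residue ξ).hom (P.presheaf.stalkSpecializes h' (P.presheaf.stalkSpecializes _ a)) =
      (P.residue ξ).hom (P.presheaf.stalkSpecializes h a)
    congr 1
    have := TopCat.Presheaf.stalkSpecializes_comp_apply P.presheaf h' (j.base.hom.map_specializes hs) a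
    exact this
  have h3 := hle hm
  rw [Ideal.mem_comap] at h3
  have h4 : (Y.presheaf.stalkSpecializes hs).hom ((Y.presheaf.germ V w hwV).hom s) =
      Y.presheaf.germ V w' hw'V s := TopCat.Presheaf.germ_stalkSpecializes_apply _ _ _ _
  rw [h4, mem_maximalIdeal, mem_nonunits_iff] at h3
  exact h3 ((Scheme.mem_basicOpen Y s w' hw'V).mp hw's)

end Local

section Main

variable {k : Type u} [Field k] [IsAlgClosed k]

/-- the morphism from the point at its closed point -/
theorem hom_ext_pt {Y : Var k} {x y : Point.pt k ⟶ Y} (z : (Point.pt k).obj.left)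
    (h : sm x z = sm y z) : x = y := by
  apply ObjectProperty.hom_ext
  apply Over.OverMorphism.ext
  refine ext_of_apply_closedPoint_eq Y.obj.hom (Dim.w x) (Dim.w y) ?_
  have : z = IsLocalRing.closedPoint k := Subsingleton.elim _ _
  rw [← this]
  exact h

theorem isClosed_sm {Y : Var k} (x : Point.pt k ⟶ Y) (z : (Point.pt k).obj.left) :
    IsClosed ({sm x z} : Set Y.obj.left) := by
  have h := ((pointEquivClosedPoint Y.obj.hom) ⟨sm x, Dim.w x⟩).2
  have : z = IsLocalRing.closedPoint k := Subsingleton.elim _ _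
  rw [this]
  exact h

omit [IsAlgClosed k] in
theorem genericPoint_specializes' (Y : Var k) (w : Y.obj.left) :
    genericPoint ↥Y.obj.left ⤳ w := genericPoint_specializes w

/-- a section of a projection has closed image -/
theorem mem_closure_iff {Y P : Var k} {p q : P ⟶ Y} (hP : IsProd p q) (j d : Y ⟶ P)
    (hjp : j ≫ p = 𝟙 Y) (hdp : d ≫ p = 𝟙 Y) (w : Y.obj.left) :
    sm j w ∈ closure ({sm d (genericPoint ↥Y.obj.left)} : Set P.obj.left) ↔ sm j w = sm d w := by
  have hd' : sm d ≫ sm p = 𝟙 _ := congrArg (fun t => sm t) hdp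
  have hj' : sm j ≫ sm p = 𝟙 _ := congrArg (fun t => sm t) hjp
  have hpd : ∀ w, sm p (sm d w) = w := fun w => congrArg (fun r : Y.obj.left ⟶ Y.obj.left => r w) hd'
  have hpj : ∀ w, sm p (sm j w) = w := fun w => congrArg (fun r : Y.obj.left ⟶ Y.obj.left => r w) hj'
  constructor
  · intro h
    have hsep : IsSeparated (sm p) := by
      have : IsSeparated (sm p ≫ Y.obj.hom) := by rw [Dim.w]; infer_instance
      exact IsSeparated.of_comp (sm p) Y.obj.hom
    have hcl : IsClosedImmersion (sm d) := by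
      have : IsClosedImmersion (sm d ≫ sm p) := by rw [hd']; infer_instance
      exact IsClosedImmersion.of_comp (sm d) (sm p)
    have h1 : closure ({sm d (genericPoint ↥Y.obj.left)} : Set P.obj.left) ⊆ Set.range (sm d) :=
      closure_minimal (by rintro _ rfl; exact ⟨_, rfl⟩) (sm d).isClosedEmbedding.isClosed_range
    obtain ⟨w', hw'⟩ := h1 h
    have h2 : w' = w := by rw [← hpd w', hw', hpj]
    rw [← hw', h2]
  · intro h
    rw [h, ← specializes_iff_mem_closure]
    exact (genericPoint_specializes' Y w).map (sm d).continuous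

variable {K : Type v} [Field K] [CharZero K] (T : Theory k K)

theorem tr_graph_diag {Y P : Var k} {p q : P ⟶ Y} (hP : IsProd p q) (G : Y ⟶ Y) (hG : Sq (sm G))
    (j d : Y ⟶ P) (hjp : j ≫ p = 𝟙 Y) (hjq : j ≫ q = G) (hdp : d ≫ p = 𝟙 Y) (hdq : d ≫ q = 𝟙 Y) :
    T.tr P (T.cl P (sm j (genericPoint ↥Y.obj.left)) * T.cl P (sm d (genericPoint ↥Y.obj.left))) =
      (Nat.card {x : Point.pt k ⟶ Y // x ≫ G = x} : K) := by
  have hd' : sm d ≫ sm p = 𝟙 _ := congrArg (fun t => sm t) hdp
  have hj' : sm j ≫ sm p = 𝟙 _ := congrArg (fun t => sm t) hjp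
  have hdq' : sm d ≫ sm q = 𝟙 _ := congrArg (fun t => sm t) hdq
  have hjq' : sm j ≫ sm q = sm G := congrArg (fun t => sm t) hjq
  have hmem := mem_closure_iff hP j d hjp hdp
  have hfix : ∀ w, sm j w = sm d w → (sm j ≫ sm q) w = w := by
    intro w hw
    change sm q (sm j w) = w
    rw [hw]
    exact congrArg (fun r : Y.obj.left ⟶ Y.obj.left => r w) hdq'
  have hspec : ∀ w, sm j w = sm d w → sm d (genericPoint ↥Y.obj.left) ⤳ sm j w := fun w hw =>
    specializes_iff_mem_closure.mpr ((hmem w).mpr hw)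
  have hnoeth : IsLocallyNoetherian Y.obj.left := LocallyOfFiniteType.isLocallyNoetherian Y.obj.hom
  have hSq : Sq (sm j ≫ sm q) := by rw [hjq']; exact hG
  have hmap : ∀ w (hw : sm j w = sm d w), Ideal.map ((sm j).stalkMap w).hom
      (RingHom.ker (Cyc.specMap (sm j w) (sm d (genericPoint ↥Y.obj.left)) (hspec w hw))) =
        maximalIdeal (Y.obj.left.presheaf.stalk w) := fun w hw =>
    map_ker_eq (sm p) (sm q) (sm j) (sm d) hj' hd' hdq' hSq (genericPoint ↥Y.obj.left) w (hspec w hw)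
      (genericPoint_specializes' Y w) (hfix w hw)
  have hisol : ∀ w w', sm j w = sm d w → sm j w' = sm d w' → w' ⤳ w → w' = w := fun w w' hw hw' hs =>
    eq_of_specializes (sm j) (sm d (genericPoint ↥Y.obj.left)) w w' hs
      (hspec w hw) (hspec w' hw') (hmap w hw)
  have hcomp : ∀ w, IsCompPt ((sm j) ⁻¹' closure ({sm d (genericPoint ↥Y.obj.left)} :
      Set P.obj.left)) w ↔ sm j w = sm d w := by
    intro w
    constructor
    · exact fun h => (hmem w).1 h.1
    · exact fun h => ⟨(hmem w).2 h, fun w' hw' hs => hisol w w' h ((hmem w').1 hw') hs⟩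
  have hclosed : ∀ w, sm j w = sm d w → IsClosed ({w} : Set Y.obj.left) := by
    intro w hw
    rw [← closure_subset_iff_isClosed]
    intro w' hw'
    have h1 : w ⤳ w' := specializes_iff_mem_closure.mpr hw'
    have h2 : IsClosed ((sm j) ⁻¹' closure ({sm d (genericPoint ↥Y.obj.left)} : Set P.obj.left)) :=
      isClosed_closure.preimage (sm j).continuous
    have h3 : w' ∈ (sm j) ⁻¹' closure ({sm d (genericPoint ↥Y.obj.left)} : Set P.obj.left) :=
      h1.mem_closed h2 ((hmem w).2 hw)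
    exact (hisol w' w ((hmem w').1 h3) hw h1).symm
  have hdimd : pdim P.obj.left (sm d (genericPoint ↥Y.obj.left)) = WeilCoh.dim Y.obj.left := by
    rw [← Dim.pdim_of_residueDegree_ne_zero d (genericPoint ↥Y.obj.left)
      (by rw [Point.residueDegree_section d p hdp]; exact one_ne_zero), Dim.pdim_genericPoint]
  have hdimP := Basic.dim_prod_int T hP
  rw [Point.tr_cl_section_generic_mul T j p hjp]
  have hpull := T.cl_pull j (sm d (genericPoint ↥Y.obj.left)) (fun w hw => by
    rw [Dim.pdim_of_isClosed _ w (hclosed w ((hcomp w).1 hw)), hdimd, hdimP]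
    push_cast; ring) (Or.inr fun w hw => Point.preimMult_eq_one _ _ _ _ (hmap w ((hcomp w).1 hw)))
  have hone : ∀ (w : {w : Y.obj.left // IsCompPt ((sm j) ⁻¹' closure
      ({sm d (genericPoint ↥Y.obj.left)} : Set P.obj.left)) w}),
      preimMult (sm j) (sm d (genericPoint ↥Y.obj.left)) w.1 w.2.1 = 1 := fun w =>
    Point.preimMult_eq_one _ _ _ _ (hmap w.1 ((hcomp w.1).1 w.2))
  simp only [hone, Nat.cast_one, one_smul] at hpull
  rw [hpull]
  have htr : ∀ (w : {w : Y.obj.left // IsCompPt ((sm j) ⁻¹' closure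
      ({sm d (genericPoint ↥Y.obj.left)} : Set P.obj.left)) w}), T.tr Y (T.cl Y w.1) = 1 := fun w =>
    Point.tr_cl_closed T Y w.1 (hclosed w.1 ((hcomp w.1).1 w.2))
  have hcard : Nat.card {w : Y.obj.left // IsCompPt ((sm j) ⁻¹' closure
      ({sm d (genericPoint ↥Y.obj.left)} : Set P.obj.left)) w} =
        Nat.card {x : Point.pt k ⟶ Y // x ≫ G = x} := by
    let z : (Point.pt k).obj.left := Classical.arbitrary _
    refine Nat.card_congr
      { toFun := fun w => ⟨Point.ofClosed Y w.1 (hclosed w.1 ((hcomp w.1).1 w.2)), ?_⟩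
        invFun := fun x => ⟨sm x.1 z, (hcomp _).2 ?_⟩
        left_inv := fun w => Subtype.ext ?_
        right_inv := fun x => Subtype.ext ?_ }
    · apply hom_ext_pt z
      have h1 := Point.sm_ofClosed_apply Y w.1 (hclosed w.1 ((hcomp w.1).1 w.2)) z
      change sm G (sm (Point.ofClosed Y w.1 _) z) = _
      rw [h1, ← hjq']
      exact hfix w.1 ((hcomp w.1).1 w.2)
    · have h1 : x.1 ≫ j = x.1 ≫ d := by
        apply Graph.hom_ext hP
        · rw [Category.assoc, Category.assoc, hjp, hdp]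
        · rw [Category.assoc, Category.assoc, hjq, hdq, x.2, Category.comp_id]
      exact congrArg (fun t => sm t z) h1
    · exact Point.sm_ofClosed_apply Y w.1 _ z
    · apply hom_ext_pt z
      exact Point.sm_ofClosed_apply Y _ _ z
  rw [← hcard]
  rcases finite_or_infinite {w : Y.obj.left // IsCompPt ((sm j) ⁻¹' closure
      ({sm d (genericPoint ↥Y.obj.left)} : Set P.obj.left)) w} with hf | hf
  · have := Fintype.ofFinite {w : Y.obj.left // IsCompPt ((sm j) ⁻¹' closure
      ({sm d (genericPoint ↥Y.obj.left)} : Set P.obj.left)) w}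
    rw [finsum_eq_sum_of_fintype, map_sum, Finset.sum_congr rfl (fun w _ => htr w)]
    simp
  · rw [Nat.card_eq_zero_of_infinite, finsum_of_infinite_support]
    · simp
    · have : (Function.support fun (w : {w : Y.obj.left // IsCompPt ((sm j) ⁻¹' closure
        ({sm d (genericPoint ↥Y.obj.left)} : Set P.obj.left)) w}) => T.cl Y w.1) = Set.univ := by
        refine Set.eq_univ_of_forall fun w hw => ?_
        have h1 := htr w
        have hw' : T.cl Y w.1 = 0 := hw
        rw [hw', map_zero] at h1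
        exact zero_ne_one h1
      rw [this]
      exact Set.infinite_univ

end Main

end K861.Fixed
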