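import Groth.Agent.Sga5.H858.AbsFrob
import Groth.Agent.AbVar.K505.FrobDeg
import Groth.Agent.WeilCoh.K861.Point
import Mathlib.FieldTheory.Finite.Basic

/-!
# The relative Frobenius of the base change to an algebraically closed field
-/

set_option autoImplicit false

universe u v w

open CategoryTheory AlgebraicGeometry WeilCoh
open Groth.Agent.Sga5.H858.AbsFrob

namespace K861.Frob

/-- an endomorphism pinned as the `q`-Frobenius is the `q`-Frobenius -/
theorem eq_frob {X : Scheme.{u}} (p : ℕ) (hp : p.Prime) (h : ∀ U : X.Opens, ((p : ℕ) : Γ(X, U)) = 0)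
    (n : ℕ) (FX : X ⟶ X) (hFb : FX.base = 𝟙 _) (hle : ∀ U : X.Opens, U ≤ FX ⁻¹ᵁ U)
    (hFapp : ∀ (U : X.Opens) (s : Γ(X, U)), (FX.appLE U U (hle U)).hom s = s ^ (p ^ n)) :
    FX = frob X p hp h n := by
  have ha : ∀ y : X, FX.base y = y := fun y => by rw [hFb]; rfl
  have ha' : ∀ W : X.Opens, FX ⁻¹ᵁ W = W := fun W => by
    apply TopologicalSpace.Opens.ext
    ext y
    change FX.base y ∈ W ↔ y ∈ W
    rw [ha]
  have key := Groth.Agent.Sga5.H858.Frob.frob_natural (p := p ^ n) (𝟙 X) FX (frob X p hp h n)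
    ha (frob_base X p hp h n) ha' (frob_preimage X p hp h n) (fun W s => ?_) (frob_app X p hp h n)
  · rwa [Category.comp_id, Category.id_comp] at key
  · have h1 := hFapp W s
    rw [← h1, Scheme.Hom.appLE]
    change _ = X.presheaf.map (eqToHom (ha' W)).op (X.presheaf.map (homOfLE (hle W)).op (FX.app W s))
    rw [← CategoryTheory.comp_apply, ← Functor.map_comp, ← op_comp]
    have h2 : eqToHom (ha' W) ≫ homOfLE (hle W) = 𝟙 _ := Subsingleton.elim _ _
    rw [h2, op_id, CategoryTheory.Functor.map_id]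
    rfl

theorem natCast_spec (R : Type u) [CommRing R] (p : ℕ) (h : ((p : ℕ) : R) = 0) :
    ((p : ℕ) : (CommRingCat.of R)) = 0 := h

/-- The relative Frobenius is the absolute Frobenius up to an automorphism of schemes. -/
theorem exists_factor {k₀ : Type u} [Field k₀] [Finite k₀] {k : Type u} [Field k] [IsAlgClosed k]
    [Algebra k₀ k] {X : Scheme.{u}} (f : X ⟶ Spec (CommRingCat.of k₀))
    (FX : X ⟶ X) (hFb : FX.base = 𝟙 _) (hle : ∀ U : X.Opens, U ≤ FX ⁻¹ᵁ U)
    (hFapp : ∀ (U : X.Opens) (s : Γ(X, U)), (FX.appLE U U (hle U)).hom s = s ^ Nat.card k₀)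
    {Y : Scheme.{u}} (g : Y ⟶ Spec (CommRingCat.of k)) (π : Y ⟶ X)
    (hπ : IsPullback π g f (Spec.map (CommRingCat.ofHom (algebraMap k₀ k))))
    (F : Y ⟶ Y) (hF : F ≫ π = π ≫ FX) (hFg : F ≫ g = g) :
    ∃ (p e : ℕ) (hp : p.Prime) (_ : CharP k p) (_ : e ≠ 0) (_ : Nat.card k₀ = p ^ e)
      (hpY : ∀ U : Y.Opens, ((p : ℕ) : Γ(Y, U)) = 0) (h : Y ⟶ Y),
      IsIso h ∧ F = h ≫ frob Y p hp hpY e := by
  classical
  obtain ⟨p, hp0⟩ := CharP.exists k₀
  have := Fintype.ofFinite k₀
  obtain ⟨n, hp, hn⟩ := FiniteField.card k₀ p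
  have hfact : Fact p.Prime := ⟨hp⟩
  have hchk : CharP k p := charP_of_injective_algebraMap (algebraMap k₀ k).injective p
  have h0 : ((p : ℕ) : k₀) = 0 := CharP.cast_eq_zero k₀ p
  have h1 : ((p : ℕ) : k) = 0 := CharP.cast_eq_zero k p
  have hX := char_zero_of_hom f (char_zero_spec (CommRingCat.of k₀) (p := p) h0)
  have hY := char_zero_of_hom g (char_zero_spec (CommRingCat.of k) (p := p) h1)
  have hcard : Nat.card k₀ = p ^ (n : ℕ) := by rw [Nat.card_eq_fintype_card, hn]
  have hFX : FX = frob X p hp hX n := eq_frob p hp hX n FX hFb hle (fun U s => by rw [hFapp, hcard])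
  have hperf : PerfectRing k p := PerfectField.toPerfectRing p
  let φ : k ≃+* k := iterateFrobeniusEquiv k p n
  have hφ : ∀ a, φ a = a ^ p ^ (n : ℕ) := fun a => iterateFrobeniusEquiv_def k p n a
  have hφ0 : ∀ a : k₀, φ (algebraMap k₀ k a) = algebraMap k₀ k a := fun a => by
    rw [hφ, ← map_pow]
    congr 1
    rw [← hn]
    exact FiniteField.pow_card a
  have hφ1 : ∀ a : k₀, φ.symm (algebraMap k₀ k a) = algebraMap k₀ k a := fun a => by
    rw [RingEquiv.symm_apply_eq, hφ0]
  let s : Spec (CommRingCat.of k) ⟶ Spec (CommRingCat.of k) := Spec.map (CommRingCat.ofHom φ.toRingHom)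
  let t : Spec (CommRingCat.of k) ⟶ Spec (CommRingCat.of k) := Spec.map (CommRingCat.ofHom φ.symm.toRingHom)
  have hst : s ≫ t = 𝟙 _ := by
    rw [← Spec.map_comp, ← CommRingCat.ofHom_comp]
    have : φ.toRingHom.comp φ.symm.toRingHom = RingHom.id k := by
      ext a; exact φ.apply_symm_apply a
    rw [this]
    exact Spec.map_id _
  have hts : t ≫ s = 𝟙 _ := by
    rw [← Spec.map_comp, ← CommRingCat.ofHom_comp]
    have : φ.symm.toRingHom.comp φ.toRingHom = RingHom.id k := by
      ext a; exact φ.symm_apply_apply a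
    rw [this]
    exact Spec.map_id _
  have hs : s ≫ Spec.map (CommRingCat.ofHom (algebraMap k₀ k)) =
      Spec.map (CommRingCat.ofHom (algebraMap k₀ k)) := by
    rw [← Spec.map_comp, ← CommRingCat.ofHom_comp]
    have : φ.toRingHom.comp (algebraMap k₀ k) = algebraMap k₀ k := by
      ext a; exact hφ0 a
    rw [this]
  have ht : t ≫ Spec.map (CommRingCat.ofHom (algebraMap k₀ k)) =
      Spec.map (CommRingCat.ofHom (algebraMap k₀ k)) := by
    rw [← Spec.map_comp, ← CommRingCat.ofHom_comp]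
    have : φ.symm.toRingHom.comp (algebraMap k₀ k) = algebraMap k₀ k := by
      ext a; exact hφ1 a
    rw [this]
  have hfs : frob (Spec (CommRingCat.of k)) p hp (char_zero_spec (CommRingCat.of k) (p := p) h1) n = s :=
    frob_spec (CommRingCat.of k) p hp h1 n φ.toRingHom hφ
  let a : Y ⟶ Y := hπ.lift π (g ≫ t) (by rw [Category.assoc, ht, hπ.w])
  let b : Y ⟶ Y := hπ.lift π (g ≫ s) (by rw [Category.assoc, hs, hπ.w])
  have ha1 : a ≫ π = π := hπ.lift_fst _ _ _
  have ha2 : a ≫ g = g ≫ t := hπ.lift_snd _ _ _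
  have hb1 : b ≫ π = π := hπ.lift_fst _ _ _
  have hb2 : b ≫ g = g ≫ s := hπ.lift_snd _ _ _
  have hab : a ≫ b = 𝟙 Y := by
    apply hπ.hom_ext
    · rw [Category.assoc, hb1, ha1, Category.id_comp]
    · rw [Category.assoc, hb2, ← Category.assoc, ha2, Category.assoc, hts, Category.comp_id,
        Category.id_comp]
  have hba : b ≫ a = 𝟙 Y := by
    apply hπ.hom_ext
    · rw [Category.assoc, ha1, hb1, Category.id_comp]
    · rw [Category.assoc, ha2, ← Category.assoc, hb2, Category.assoc, hst, Category.comp_id,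
        Category.id_comp]
  refine ⟨p, n, hp, hchk, n.ne_zero, hcard, hY, a, ⟨b, hab, hba⟩, ?_⟩
  apply hπ.hom_ext
  · rw [hF, Category.assoc, frob_comp π p hp hY hX n, ← Category.assoc, ha1, hFX]
  · rw [hFg, Category.assoc, frob_comp g p hp hY (char_zero_spec (CommRingCat.of k) (p := p) h1) n, hfs,
      ← Category.assoc, ha2, Category.assoc, hts, Category.comp_id]

end K861.Frob
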