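import Groth.Agent.WeilCoh.K861.Total
import Mathlib.LinearAlgebra.Determinant

/-!
# Traces of correspondences
-/

set_option autoImplicit false

universe u v w

open CategoryTheory AlgebraicGeometry TensorProduct WeilCoh K861.Total

namespace K861.Lefschetz

variable {k : Type u} [Field k] {P : ObjectProperty (Over (Spec (CommRingCat.of k)))}
variable {K : Type v} [Field K] (T : TheoryOn.{u, v, w} k P K)

/-- the trace of an operator compressed to a graded piece -/
noncomputable def gtr (X : P.FullSubcategory) (i : ℤ) : (T.H X →ₗ[K] T.H X) →ₗ[K] K where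
  toFun A := LinearMap.trace K (T.gr X i) (proj T X i ∘ₗ A ∘ₗ (T.gr X i).subtype)
  map_add' A B := by
    rw [← map_add]; congr 1
    ext x; simp
  map_smul' c A := by
    rw [RingHom.id_apply, ← map_smul]; congr 1
    ext x; simp

theorem gtr_eq_of {X : P.FullSubcategory} {i : ℤ} (A : T.H X →ₗ[K] T.H X)
    (E : T.gr X i →ₗ[K] T.gr X i) (h : ∀ x : T.gr X i, (E x : T.H X) = A x) :
    LinearMap.trace K (T.gr X i) E = gtr T X i A := by
  change _ = LinearMap.trace K (T.gr X i) (proj T X i ∘ₗ A ∘ₗ (T.gr X i).subtype)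
  congr 1
  ext x
  have h1 : A x ∈ T.gr X i := by
    rw [← h]; exact SetLike.coe_mem _
  simp only [LinearMap.comp_apply, Submodule.subtype_apply]
  rw [proj_of_mem T h1, h]

theorem gtr_rankOne {X : P.FullSubcategory} {i s : ℤ} (A : T.H X →ₗ[K] T.H X)
    (f : T.H X →ₗ[K] K) (v : T.H X) (hv : v ∈ T.gr X s) (h : ∀ x, A x = f x • v) :
    gtr T X i A = if i = s then f v else 0 := by
  change LinearMap.trace K (T.gr X i) (proj T X i ∘ₗ A ∘ₗ (T.gr X i).subtype) = _
  rw [trace_rankOne (f ∘ₗ (T.gr X i).subtype) (proj T X i v) _ (fun x => by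
    simp only [LinearMap.comp_apply, Submodule.subtype_apply]
    rw [h, map_smul])]
  by_cases his : i = s
  · subst his
    rw [if_pos rfl, LinearMap.comp_apply, Submodule.subtype_apply, proj_of_mem T hv]
  · rw [if_neg his, proj_of_mem_ne T (Ne.symm his) hv, map_zero]

/-- the alternating sum of the traces -/
noncomputable def str (X : P.FullSubcategory) : (T.H X →ₗ[K] T.H X) →ₗ[K] K :=
  ∑ i ∈ Finset.range (2 * WeilCoh.dim X.obj.left + 1), (-1 : K) ^ i • gtr T X (i : ℤ)

theorem str_apply (X : P.FullSubcategory) (A : T.H X →ₗ[K] T.H X) :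
    str T X A = ∑ i ∈ Finset.range (2 * WeilCoh.dim X.obj.left + 1),
      (-1 : K) ^ i * gtr T X (i : ℤ) A := by
  unfold str
  rw [LinearMap.sum_apply]
  rfl

theorem str_rankOne {X : P.FullSubcategory} {s : ℤ} (A : T.H X →ₗ[K] T.H X)
    (f : T.H X →ₗ[K] K) (v : T.H X) (hv : v ∈ T.gr X s) (h : ∀ x, A x = f x • v) :
    str T X A = eps K s * f v := by
  rw [str_apply]
  by_cases hs : s < 0 ∨ (2 * (WeilCoh.dim X.obj.left : ℤ)) < s
  · have hv0 := Basic.eq_zero_of_lt T hv hs
    rw [hv0, map_zero, mul_zero]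
    refine Finset.sum_eq_zero fun i _ => ?_
    rw [gtr_rankOne T A f v hv h, hv0, map_zero, ite_self, mul_zero]
  · obtain ⟨n, rfl⟩ : ∃ n : ℕ, s = n := ⟨s.toNat, by omega⟩
    rw [Finset.sum_eq_single n]
    · rw [gtr_rankOne T A f v hv h, if_pos rfl, eps_natCast]
    · intro i _ hi
      rw [gtr_rankOne T A f v hv h, if_neg (by exact_mod_cast hi), mul_zero]
    · intro hn
      exfalso
      apply hn
      rw [Finset.mem_range]
      omega

/-- the swap preserves the trace -/
theorem tr_swap {X Y Q Q' : P.FullSubcategory} {p : Q ⟶ X} {q : Q ⟶ Y} (hQ : IsProd p q)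
    {p' : Q' ⟶ Y} {q' : Q' ⟶ X} (hQ' : IsProd p' q') (σ : Q ⟶ Q') (h₁ : σ ≫ p' = q)
    (h₂ : σ ≫ q' = p) (c : T.H Q') : T.tr Q (T.pull σ c) = T.tr Q' c := by
  induction c using Basic.kunneth_induction T hQ' with
  | hom i j b a hb ha =>
    rw [map_mul, ← Basic.pull_comp_apply, ← Basic.pull_comp_apply, h₁, h₂,
      Basic.tr_pull_mul_pull T hQ', tr_mul_comm T (T.pull_mem q i b hb) (T.pull_mem p j a ha),
      Basic.tr_pull_mul_pull T hQ]
    by_cases hi : i = 2 * (WeilCoh.dim Y.obj.left : ℤ)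
    · rw [hi, eps_of_even K (even_two_mul _)]; ring
    · rw [Basic.tr_of_ne T hb hi]; simp
  | zero => simp
  | add c d hc hd => rw [map_add, map_add, map_add, hc, hd]

/-- trace formula for correspondences -/
theorem trace_formula {X Y Q Q' : P.FullSubcategory} {p : Q ⟶ X} {q : Q ⟶ Y} (hQ : IsProd p q)
    {p' : Q' ⟶ Y} {q' : Q' ⟶ X} (hQ' : IsProd p' q') (σ : Q ⟶ Q') (h₁ : σ ≫ p' = q)
    (h₂ : σ ≫ q' = p) (r : ℤ) (φ : T.H Q) (hφ : φ ∈ T.gr Q (2 * (WeilCoh.dim X.obj.left : ℤ) + r))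
    (ψ : T.H Q') (hψ : ψ ∈ T.gr Q' (2 * (WeilCoh.dim Y.obj.left : ℤ) - r)) :
    T.tr Q (φ * T.pull σ ψ) = str T X (corr T p' q' ψ ∘ₗ corr T p q φ) := by
  refine kunneth_induction_gr T hQ _ (r := fun φ => T.tr Q (φ * T.pull σ ψ) =
    str T X (corr T p' q' ψ ∘ₗ corr T p q φ)) ?_ ?_ ?_ φ hφ
  · intro s t a b hst ha hb
    have h1 : ∀ x, (corr T p' q' ψ ∘ₗ corr T p q (T.pull p a * T.pull q b)) x =
        (T.tr X ∘ₗ LinearMap.mulRight K a) x • corr T p' q' ψ b := by
      intro x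
      rw [LinearMap.comp_apply, corr_pull_mul_pull T p q hQ, map_smul]
      rfl
    have h2 := corr_mem T p' q' hQ' hψ hb
    rw [str_rankOne T _ _ _ h2 h1, LinearMap.comp_apply, LinearMap.mulRight_apply, tr_corr_mul]
    have h3 : T.pull p a * T.pull q b * T.pull σ ψ =
        T.pull σ (T.pull q' a * (T.pull p' b * ψ)) := by
      rw [map_mul, map_mul, ← Basic.pull_comp_apply, ← Basic.pull_comp_apply, h₁, h₂, mul_assoc]
    rw [h3, tr_swap T hQ hQ' σ h₁ h₂,
      tr_mul_comm T (T.pull_mem q' s a ha) (Basic.mul_mem T (T.pull_mem p' t b hb) hψ)]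
    congr 1
    apply eps_congr
    have : s + (t + (2 * (WeilCoh.dim Y.obj.left : ℤ) - r) - 2 * (WeilCoh.dim Y.obj.left : ℤ)) =
      2 * (WeilCoh.dim X.obj.left : ℤ) := by omega
    rw [this]
    exact even_two_mul _
  · simp [corr_zero]
  · intro c d _ _ hc hd
    rw [add_mul, map_add, hc, hd, corr_add, LinearMap.comp_add, map_add]

/-- the trace formula for the diagonal -/
theorem tr_diag {X Q : P.FullSubcategory} {p q : Q ⟶ X} (hQ : IsProd p q) (d : X ⟶ Q)
    (hp : d ≫ p = 𝟙 X) (hq : d ≫ q = 𝟙 X) (c : T.H Q)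
    (hc : c ∈ T.gr Q (2 * (WeilCoh.dim X.obj.left : ℤ))) :
    T.tr X (T.pull d c) = str T X (corr T p q c) := by
  refine kunneth_induction_gr T hQ _ (r := fun c => T.tr X (T.pull d c) =
    str T X (corr T p q c)) ?_ ?_ ?_ c hc
  · intro s t a b hst ha hb
    have h1 : ∀ x, corr T p q (T.pull p a * T.pull q b) x =
        (T.tr X ∘ₗ LinearMap.mulRight K a) x • b := by
      intro x
      rw [corr_pull_mul_pull T p q hQ]
      rfl
    rw [str_rankOne T _ _ _ hb h1, map_mul, ← Basic.pull_comp_apply, ← Basic.pull_comp_apply, hp, hq,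
      Basic.pull_id_apply, Basic.pull_id_apply, LinearMap.comp_apply, LinearMap.mulRight_apply,
      tr_mul_comm T ha hb]
    congr 1
    apply eps_congr
    rw [hst]
    exact even_two_mul _
  · simp [corr_zero]
  · intro c d _ _ hc hd
    rw [map_add, map_add, hc, hd, corr_add, map_add]

end K861.Lefschetz
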